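import Cfsg.Agent.Mrg.Omega.NO3S.Level.Cut
import Cfsg.Agent.Mrg.Omega.Spread.ElatOf
import Cfsg.Agent.Mrg.Omega.NO3S.Pas.FrT
import Cfsg.Agent.Mrg.Omega.NO3S.Pas.Inst

section


/-!
# GammaFF (S1), helper283 #20415 (4): `V_Y` is not FF for `Y = ⟨P, R⟩`

`P ∈ P**` with `V_P` of the types of the FF theorem, `R ∈ P*(S)`, `|Z| ≥ 4` or `⟨R, C_G(Z)⟩` local, `V_R ≰ V_P`: nothing in
`Y = ⟨P, R⟩` offends on `⟨Z^Y⟩`.

* `gallery` : `M` generated by a set `TT` of members of `P*(S)`: a 2-subgroup of `M` which moves `⟨Z^M⟩` has an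
  `M`-conjugate in `S` which moves some `V_P`, `P ∈ TT`;
* `PrinT`, `exists_minOff` : the same principle for a general module `W`; no over-offender, and a minimal offender in
  `S` moves some `V_P`, `P ∈ TT`;
* `not_off` : `⟨Z^Y⟩` has no offender (minimal offenders in `O₂(P)`: THEOREM B; a minimal offender moves `V_P`:
  `⟨Z^Y⟩ = V_P`, THEOREM D);
* `Rad S` : the leaf (S1): the W-stage, and `C_Z(R) ≠ 1` whenever some `W_F ≤ S` is not in `O₂(R)`; `Rad.pas` : every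
  `P ∈ P**` is passive; `Rad.two` : `|Z| > 2`;
* `Rad.not_le_EE` : `⟨Z^Y⟩ ≰ E_F`.
-/

set_option autoImplicit false
set_option linter.unusedSectionVars false

namespace Cfsg.Agent.Omega.NO3S.GFF.S1

open Subgroup Cfsg Cfsg.Agent.ZN Cfsg.Agent.ZN.ChoiceBase Cfsg.Agent.Omega.MinPar Cfsg.Agent.Omega.Frame
open Cfsg.Agent.Omega.FrameNOFF (CZ)
open Cfsg.Agent.Omega.FFThm (OffM ElemM NoOverM StmtM ConclM)
open Cfsg.Agent.Omega.FrameFF (cv)
open Cfsg.Agent.Omega.NOThreeL.VF (fM fM_le fM_cj fM_of_le le_fM_iff fM_le_iff exists_two card_eq_rel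
  fM_congr elemM_cj le_o2_of_cj)
open Cfsg.Agent.Omega.NO3S.Level (MinOff noOver_line off_of_fM fam bfam_fam toB eq_of_min)

universe u

variable {G : Type u} [Group G] [Finite G]

/-- A 2-subgroup `A ≤ M` moving `⟨Z^M⟩`, `M = ⟨TT⟩`, moves some line `V_P^m`, `P ∈ TT`, `A ≤ S^m`. -/
theorem gallery (hc : IsCharacteristicTwoType G) (S : Sylow 2 G) {M : Subgroup G} {TT : Set (Subgroup G)}
    (hM : IsLoc (S : Subgroup G) M) (hTT : ∀ P ∈ TT, IsParS (S : Subgroup G) P) (hTM : ∀ P ∈ TT, P ≤ M)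
    (hgen : M ≤ sSup TT) {A : Subgroup G} (hA : A ≤ M) (hA2 : IsPGroup 2 A)
    (hne : ¬ A ≤ centralizer (zl (S : Subgroup G) M : Set G)) :
    ∃ m ∈ M, cj m A ≤ (S : Subgroup G) ∧ ∃ P ∈ TT, ¬ cj m A ≤ centralizer (zl (S : Subgroup G) P : Set G) := by
  by_contra hcon
  push Not at hcon
  apply hne
  let Y : Subgroup G :=
    { carrier := {g | ∀ m, cj m A ≤ (S : Subgroup G) ∧ m ∈ M ↔ cj (g * m) A ≤ (S : Subgroup G) ∧ g * m ∈ M}
      mul_mem' := by
        intro a b ha hb m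
        have h1 := hb m
        have h2 := ha (b * m)
        rw [← mul_assoc] at h2
        exact h1.trans h2
      one_mem' := by intro m; rw [one_mul]
      inv_mem' := by
        intro a ha m
        have h1 := ha (a⁻¹ * m)
        have e : a * (a⁻¹ * m) = m := by group
        rw [e] at h1
        exact h1.symm }
  have key : ∀ P ∈ TT, ∀ p ∈ P, ∀ m, cj m A ≤ (S : Subgroup G) → m ∈ M →
      cj (p * m) A ≤ (S : Subgroup G) ∧ p * m ∈ M := by
    intro P hP p hp m hm hmM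
    refine ⟨?_, mul_mem (hTM P hP hp) hmM⟩
    have h1 := hcon m hmM hm P hP
    have h2 : cj m A ≤ o2 P := by
      rw [← (hTT P hP).inf_centralizer S hc]
      exact le_inf hm h1
    rw [← cj_cj]
    exact Level.conj_le_of_le_o2 (hTT P hP).toIsPar h2 hp
  have hY : ∀ P ∈ TT, P ≤ Y := by
    intro P hP p hp m
    constructor
    · rintro ⟨h1, h2⟩
      exact key P hP p hp m h1 h2
    · rintro ⟨h1, h2⟩
      have h3 := key P hP p⁻¹ (inv_mem hp) (p * m) h1 h2
      have e : p⁻¹ * (p * m) = m := by group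
      rwa [e] at h3
  have hMY : M ≤ Y := hgen.trans (sSup_le hY)
  -- `A` has a conjugate in `S`
  obtain ⟨m₀, hm₀, hm₀S⟩ := FFThm.exists_conj_le S hM.le hA2 hA
  have h5 : ∀ m ∈ M, cj m⁻¹ A ≤ (S : Subgroup G) := by
    intro m hm
    have h1 := ((hMY (mul_mem (inv_mem hm) (inv_mem hm₀))) m₀).1 ⟨hm₀S, hm₀⟩
    have e : m⁻¹ * m₀⁻¹ * m₀ = m⁻¹ := by group
    rw [e] at h1
    exact h1.1
  have h6 := le_o2_of_cj S hM.le h5
  have h7 := hM.zl_le S hc
  exact (h6.trans (le_centralizer_zc _)).trans (centralizer_le h7)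

variable {S : Sylow 2 G} {M W P R : Subgroup G} {TT : Set (Subgroup G)}

/-- The principle for `M`, `W` and the types `TT`. -/
def PrinT (S : Sylow 2 G) (TT : Set (Subgroup G)) (M W : Subgroup G) : Prop :=
  ∀ B ≤ M, IsPGroup 2 B → ¬ B ≤ centralizer (W : Set G) → ∃ m ∈ M, cj m B ≤ (S : Subgroup G) ∧
    ∃ P ∈ TT, ¬ cj m B ≤ centralizer (zl (S : Subgroup G) P : Set G)

/-- No over-offender on `W`, and a minimal offender in `S` moves some `V_P`, `P ∈ TT`. -/
theorem exists_minOff (hFF : StmtM.{u}) (hc : IsCharacteristicTwoType G) (hMW : M ≤ normalizer (W : Set G))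
    (hTT : ∀ P ∈ TT, IsParS (S : Subgroup G) P)
    (hVW : ∀ P ∈ TT, zl (S : Subgroup G) P ≤ W) (hprin : PrinT S TT M W)
    (hoff : ∃ A ≤ M, OffM W A) :
    NoOverM W M ∧ ∃ A ≤ (S : Subgroup G), MinOff W M A ∧
      ∃ P ∈ TT, ¬ A ≤ centralizer (zl (S : Subgroup G) P : Set G) := by
  classical
  let 𝒞 : Set (Subgroup G) := {B | B ≤ M ∧ IsPGroup 2 B ∧ ElemM W B ∧ ¬ B ≤ centralizer (W : Set G)}
  have hrep : ∀ A ≤ M, ElemM W A → ¬ A ≤ centralizer (W : Set G) → ∃ B ∈ 𝒞, fM W B = fM W A := by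
    intro A hA hE hne
    obtain ⟨B, hB, hB2, h⟩ := exists_two (hA.trans hMW) hE
    refine ⟨B, ⟨hB.trans hA, hB2, NOThreeL.VF.elemM_mono hE hB, fun h1 => hne fun a ha => ?_⟩, fM_congr hB h⟩
    obtain ⟨b, hb, hab⟩ := h a ha
    have h2 := mul_mem (h1 hb) hab
    have e : b * (b⁻¹ * a) = a := by group
    rwa [e] at h2
  obtain ⟨A₀, hA₀M, hA₀⟩ := hoff
  obtain ⟨B₀, hB₀, hfB₀⟩ := hrep A₀ hA₀M hA₀.toElemM hA₀.ne
  have hVf₀ : Nat.card W ≤ fM W B₀ := by
    rw [hfB₀]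
    exact le_fM_iff.2 hA₀.le
  -- no over-offender
  have hNO : NoOverM W M := by
    obtain ⟨B₁, hB₁, hmax⟩ := Set.exists_max_image 𝒞 (fM W) (Set.toFinite _) ⟨B₀, hB₀⟩
    obtain ⟨B, ⟨hB, hBf⟩, hmin⟩ := Set.exists_min_image {B | B ∈ 𝒞 ∧ fM W B = fM W B₁}
      (fun B => (centralizer (W : Set G)).relIndex B) (Set.toFinite _) ⟨B₁, hB₁, rfl⟩
    obtain ⟨m, hm, hmS, P, hP, hmP⟩ := hprin B hB.1 hB.2.1 hB.2.2.2
    have hcj := fM_cj (A := B) (hMW hm)
    have hWV := hVW P hP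
    have hCVW : centralizer (W : Set G) ≤ centralizer (zl (S : Subgroup G) P : Set G) := centralizer_le hWV
    set A : Subgroup G := cj m B with hAd
    have hAM : A ≤ M := by
      have h1 := cj_mono m hB.1
      rwa [cj_eq_of_mem_normalizer (le_normalizer hm)] at h1
    have hAE : ElemM W A := elemM_cj (hMW hm) hB.2.2.1
    have hAW : ElemM (zl (S : Subgroup G) P) A :=
      ⟨fun a ha => hCVW (hAE.sq a ha), fun a ha b hb => hCVW (hAE.comm a ha b hb)⟩
    have hfA : fM W A = fM W B₁ := hcj.1.trans hBf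
    have hle := fM_le hWV (noOver_line hFF hc (hTT P hP) (hmS.trans (hTT P hP).le) hAW hmP)
    set A₁ : Subgroup G := A ⊓ centralizer (zl (S : Subgroup G) P : Set G) with hA₁
    have hA₁V : A₁ ≤ centralizer (W : Set G) := by
      by_contra hcon
      have hmem : A₁ ∈ 𝒞 := ⟨inf_le_left.trans hAM, (S.isPGroup'.to_le hmS).to_le inf_le_left,
        NOThreeL.VF.elemM_mono hAE inf_le_left, hcon⟩
      have h1 := hmax A₁ hmem
      have h2 : fM W A₁ = fM W B₁ := le_antisymm h1 (hfA ▸ hle)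
      have h3 := hmin A₁ ⟨hmem, h2⟩
      rw [← hcj.2] at h3
      have e4 : A₁ ⊓ centralizer (W : Set G) = A ⊓ centralizer (W : Set G) := by
        rw [hA₁, inf_assoc, inf_eq_right.2 hCVW]
      have h4 : Nat.card A ≤ Nat.card A₁ := by
        rw [card_eq_rel W A, card_eq_rel W A₁, e4]
        exact Nat.mul_le_mul_right _ h3
      have h5 : A₁ = A := Subgroup.eq_of_le_of_card_ge inf_le_left h4
      exact hmP (inf_eq_left.1 h5)
    have hfB₁ : fM W B₁ ≤ Nat.card W := by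
      rw [← hfA, ← fM_of_le hA₁V]
      exact hle
    intro D hD hE
    rw [← fM_le_iff]
    by_cases hne : D ≤ centralizer (W : Set G)
    · exact (fM_of_le hne).le
    · obtain ⟨B', hB', h1⟩ := hrep D hD hE hne
      rw [← h1]
      exact (hmax B' hB').trans hfB₁
  refine ⟨hNO, ?_⟩
  have hne : {B | B ≤ M ∧ IsPGroup 2 B ∧ OffM W B}.Nonempty :=
    ⟨B₀, hB₀.1, hB₀.2.1, off_of_fM hB₀.2.2.1 hB₀.2.2.2 hVf₀⟩
  obtain ⟨B, ⟨hB1, hB2, hB3⟩, hmin⟩ := Set.exists_min_image _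
    (fun B => (centralizer (W : Set G)).relIndex B) (Set.toFinite _) hne
  have mB : MinOff W M B := ⟨hB1, hB2, hB3, fun D hD hD2 hDo => hmin D ⟨hD, hD2, hDo⟩⟩
  obtain ⟨m, hm, hmS, P, hP, hmP⟩ := hprin B hB1 hB2 hB3.ne
  exact ⟨cj m B, hmS, mB.cj hm hMW, P, hP, hmP⟩

/-- **#20415 (4)**: `⟨Z^Y⟩`, `Y = ⟨P, R⟩`, is not FF. -/
theorem not_off (h : HypN S P) (hty : ThmB.Main.Ty (S : Subgroup G) P) (hR : IsParS (S : Subgroup G) R)
    (hloc : ¬ NonLoc R (CZ (S : Subgroup G)) ∨ ∃ z ∈ zc (S : Subgroup G), ∃ z' ∈ zc (S : Subgroup G), z ≠ 1 ∧ z' ≠ 1 ∧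
      z ≠ z') (hne : ¬ zl (S : Subgroup G) R ≤ zl (S : Subgroup G) P) :
    ¬ ∃ A ≤ P ⊔ R, OffM (zl (S : Subgroup G) (P ⊔ R)) A := by
  intro hoff
  have hc := h.ctx.char2
  have hL := ThmB.Main.isLoc_sup hc h.noFF h.star hR
  set W : Subgroup G := zl (S : Subgroup G) (P ⊔ R) with hW
  have hMW : P ⊔ R ≤ normalizer (W : Set G) := ZN.le_normalizer_zl _ _
  have hVP : zl (S : Subgroup G) P ≤ W := ZN.zl_le ZN.zc_le_zl (le_sup_left.trans hMW)
  have hVR : zl (S : Subgroup G) R ≤ W := ZN.zl_le ZN.zc_le_zl (le_sup_right.trans hMW)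
  have hWE : IsElementaryAbelian 2 W := ThmB.Inst.zl_sup_el hc hL
  have hWc : W ≤ centralizer (W : Set G) := fun x hx => mem_centralizer_iff.2 fun y hy =>
    ThmB.elem_comm hWE hy hx
  have hTT : ∀ Q ∈ ({P, R} : Set (Subgroup G)), IsParS (S : Subgroup G) Q := by
    rintro Q (rfl | rfl)
    · exact h.star
    · exact hR
  have hTW : ∀ Q ∈ ({P, R} : Set (Subgroup G)), zl (S : Subgroup G) Q ≤ W := by
    rintro Q (rfl | rfl)
    · exact hVP
    · exact hVR
  have hprin : PrinT S {P, R} (P ⊔ R) W := by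
    intro B hB hB2 hBW
    refine gallery hc S hL hTT ?_ ?_ hB hB2 hBW
    · rintro Q (rfl | rfl)
      · exact le_sup_left
      · exact le_sup_right
    · exact sup_le (le_sSup (Or.inl rfl)) (le_sSup (Or.inr rfl))
  obtain ⟨no, A, hAS, m, Q, hQ, hAQ⟩ := exists_minOff FF.Glob.ffthmM hc hMW hTT hTW hprin hoff
  by_cases hcon : ∀ B ≤ (S : Subgroup G), MinOff W (P ⊔ R) B → B ≤ centralizer (zl (S : Subgroup G) P : Set G)
  · -- THEOREM B
    have hQR : Q = R := by
      rcases hQ with rfl | rfl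
      · exact absurd (hcon A hAS m) hAQ
      · rfl
    rw [hQR] at hAQ
    have h1 : ∀ B ∈ fam (S : Subgroup G) W (P ⊔ R), B ≤ o2 P := by
      intro B hB
      rw [← IsParS.inf_centralizer S hc h.star]
      refine le_inf hB.1 ?_
      rcases hB.2 with mB | hB2
      · exact hcon B hB.1 mB
      · exact hB2.trans (centralizer_le hVP)
    have h2 := ThmB.Main.le_of_bfam h hty hR hloc (toB (bfam_fam (S := S) hMW no)) h1 A ⟨hAS, Or.inl m⟩
    rw [← IsParS.inf_centralizer S hc hR] at h2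
    exact hAQ (h2.trans inf_le_right)
  · push Not at hcon
    obtain ⟨B, hBS, mB, hBP⟩ := hcon
    have e := eq_of_min FF.Glob.ffthmM hc h.star le_sup_left h.toHyp.cv hWc
      (fun x hx => (ChoiceBase.mem_zc.1 (ThmB.Inst.zl_sup_le hc hL hx)).2.1) hMW hVP
      (ThmB.Inst.zl_sup_S hc hL) no mB hBS hBP
    exact hne (hVR.trans e.le)

/-! ### The leaf (S1) -/

open Cfsg.Agent.Omega.NO3S.Level (W0 WSt X0 M0 K0 M0_norm S_le_M0 par_le X0_comm X0_sq)
open Cfsg.Agent.Omega.NOne.Flat (EE)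

/-- **(S1)**: the W-stage with radicals: all active members of `P*(S)` have `C_Z(R) ≠ 1`. -/
structure Rad (S : Sylow 2 G) : Prop extends W0 S where
  rad : ∀ R F, WSt S R F → zc (S : Subgroup G) ⊓ centralizer (R : Set G) ≠ ⊥

namespace Rad

variable (h : Rad S)
include h

/-- Every `P ∈ P**` is passive. -/
theorem pas {F : Subgroup G} (hP : PSS (S : Subgroup G) P) (hyp : NOne.Flat.Hyp (X0 (S : Subgroup G)) F)
    (WS : NOne.Flat.WW (X0 (S : Subgroup G)) F ≤ (S : Subgroup G)) : NOne.Flat.WW (X0 (S : Subgroup G)) F ≤ o2 P := by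
  by_contra hcon
  exact h.rad P F { toW0 := h.toW0, par := hP.par, hyp := hyp, WS := WS, mv := hcon }
    (h.toHypC.hypN hP.par hP.nonLoc).toHyp.inf_eq_bot

/-- `|Z| > 2` -/
theorem two {F : Subgroup G} (w : WSt S R F) : ∃ z ∈ zc (S : Subgroup G), ∃ z' ∈ zc (S : Subgroup G), z ≠ 1 ∧
    z' ≠ 1 ∧ z ≠ z' := by
  obtain ⟨z, hz, hz1⟩ := ThmB.Main.exists_ne (h.rad R F w)
  by_contra hcon
  push Not at hcon
  apply ThmB.Main.not_cent w.par
  intro g hg
  rw [mem_centralizer_iff]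
  intro z' hz'
  by_cases h1 : z' = 1
  · rw [h1, one_mul, mul_one]
  · have e := hcon z hz.1 z' hz' hz1 h1
    rw [← e]
    exact (mem_centralizer_iff.1 hz.2 g hg).symm

/-- `V_R ≰ V_P` for `R` active, `P ∈ P**`. -/
theorem not_le {F : Subgroup G} (w : WSt S R F) (hP : PSS (S : Subgroup G) P) :
    ¬ zl (S : Subgroup G) R ≤ zl (S : Subgroup G) P := by
  intro h1
  apply w.mv
  rw [← IsParS.inf_centralizer S h.ctx.char2 w.par]
  have h2 := h.pas hP w.hyp w.WS
  rw [← IsParS.inf_centralizer S h.ctx.char2 hP.par] at h2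
  exact le_inf w.WS ((h2.trans inf_le_right).trans (centralizer_le h1))

/-- `⟨Z^Y⟩` has no offender, `Y = ⟨P, R⟩`. -/
theorem not_off {F : Subgroup G} (w : WSt S R F) (hP : PSS (S : Subgroup G) P) :
    ¬ ∃ A ≤ P ⊔ R, OffM (zl (S : Subgroup G) (P ⊔ R)) A :=
  S1.not_off (h.toHypC.hypN hP.par hP.nonLoc) (h.ty P hP) w.par (Or.inr (h.two w)) (h.not_le w hP)

/-- `Y = ⟨P, R⟩ ≤ N_G(X₀)` -/
theorem Y_le {F : Subgroup G} (w : WSt S R F) (hP : PSS (S : Subgroup G) P) :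
    P ⊔ R ≤ normalizer (X0 (S : Subgroup G) : Set G) :=
  (sup_le (par_le hP.par) (par_le w.par)).trans (M0_norm _)

/-- **`⟨Z^Y⟩ ≰ E_F`.** -/
theorem not_le_EE {F : Subgroup G} (w : WSt S R F) (hP : PSS (S : Subgroup G) P) :
    ¬ zl (S : Subgroup G) (P ⊔ R) ≤ EE (X0 (S : Subgroup G)) F := by
  intro hE
  refine h.not_off w hP ⟨NOne.Flat.WW (X0 (S : Subgroup G)) F, w.WS.trans (w.par.le.trans le_sup_right), ?_⟩
  have hLV : zl (S : Subgroup G) (P ⊔ R) ≤ X0 (S : Subgroup G) := hE.trans inf_le_left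
  have h1 := w.hyp.elemM_W
  refine { sq := fun a ha => centralizer_le hLV (h1.sq a ha)
           comm := fun a ha b hb => centralizer_le hLV (h1.comm a ha b hb)
           ne := fun hc => w.mv ?_
           le := FFThm.relIndex_le_iff.2 (w.hyp.off_of_le_all hE) }
  rw [← IsParS.inf_centralizer S h.ctx.char2 w.par]
  refine le_inf w.WS (hc.trans (centralizer_le ?_))
  exact ZN.zl_le ZN.zc_le_zl (le_sup_right.trans (ZN.le_normalizer_zl _ _))

end Rad

end Cfsg.Agent.Omega.NO3S.GFF.S1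

end

section


/-!
# GammaFF, (S1) (#21629, helper335): the frame

`P ∈ P**`, `P₁` active, the types `TT S P P₁ = {P} ∪ {P₁^v : v ∈ N_P(S)}`, the geometry of `Y = ⟨P, P₁⟩`.

* `Fnt S P P₁ V F n` : `FrT` for `TT`, `W_F ≤ S`, `n ≥ 1`; `Fnt.conj` : the same for `F^y`, `y ∈ Y`, `W_F^y ≤ S`;
* `BF`, `IF` : the groups `B`, `I`; `BF_conj`, `IF_conj`; `Fnt.line_le_I`, `Fnt.zl_le_I`;
* `Fnt.not_le_E` / `exists_fnt` : from `Rad`: a front with a bad line at distance `n`.
-/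

set_option autoImplicit false
set_option linter.unusedSectionVars false

namespace Cfsg.Agent.Omega.NO3S.SOne

open Subgroup Cfsg Cfsg.Agent.ZN Cfsg.Agent.Omega.MinPar
open Cfsg.Agent.Omega.NoFF.Basic (conj_conj mem_conj conj_le_iff conj_le_centralizer comm_symm comm_mono
  V_le Gal conj_self)
open Cfsg.Agent.Omega.NOne.Flat (EE NN BadX Cos conj_eq_of_norm conj_centralizer WW_conj EE_conj NN_conj conj_eq_of_cent)
open Cfsg.Agent.Omega.NOne.NearFF (c c_def)
open Cfsg.Agent.Omega.NO3S.Pas (ChT GdT BBT FrT BLT bhT WFr)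
open Cfsg.Agent.Omega.NOThreeL.Low.Key (BH)
open Cfsg.Agent.Omega.NO3S.Level (W0 WSt X0 M0 K0 M0_norm S_le_M0 par_le X0_comm X0_sq)
open Cfsg.Agent.Omega.NO3S.GFF.S1 (Rad)
open scoped Pointwise

universe u

variable {G : Type u} [Group G]

/-- The types `P`, `P₁^v`, `v ∈ N_P(S)`. -/
def TT (S P P₁ : Subgroup G) : Set (Subgroup G) :=
  {R | R = P ∨ ∃ v ∈ P ⊓ normalizer (S : Set G), R = MulAut.conj v • P₁}

theorem P_mem_TT {S P P₁ : Subgroup G} : P ∈ TT S P P₁ := Or.inl rfl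

theorem conj_mem_TT {S P P₁ : Subgroup G} {v : G} (hv : v ∈ P ⊓ normalizer (S : Set G)) :
    MulAut.conj v • P₁ ∈ TT S P P₁ := Or.inr ⟨v, hv, rfl⟩

theorem P₁_mem_TT {S P P₁ : Subgroup G} : P₁ ∈ TT S P P₁ := by
  have h := conj_mem_TT (P₁ := P₁) (one_mem (P ⊓ normalizer (S : Set G)))
  rwa [map_one, one_smul] at h

theorem TT_le {S P P₁ : Subgroup G} : ∀ R ∈ TT S P P₁, R ≤ P ⊔ P₁ := by
  rintro R (rfl | ⟨v, hv, rfl⟩)
  · exact le_sup_left
  · have h1 : MulAut.conj v • (P ⊔ P₁) = P ⊔ P₁ := conj_self ((le_sup_left : P ≤ P ⊔ P₁) hv.1)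
    rw [← h1]
    exact conj_le_iff.2 le_sup_right

theorem le_sSup_TT {S P P₁ : Subgroup G} : P ⊔ P₁ ≤ sSup (TT S P P₁) :=
  sup_le (le_sSup P_mem_TT) (le_sSup P₁_mem_TT)

/-- `N(S)` acts on `P*(S)`. -/
theorem parS_conj {S R : Subgroup G} (hR : IsParS S R) {v : G} (hv : v ∈ normalizer (S : Set G)) :
    IsParS S (MulAut.conj v • R) := by
  have h5 := IsParS.map (MulAut.conj v) hR
  have h6 : S.map (MulAut.conj v).toMonoidHom = S := conj_eq_of_norm hv
  rw [h6] at h5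
  exact h5

/-! ### conjugation of the front -/

section conj

variable {𝒯 : Set (Subgroup G)} {M S V F : Subgroup G} {n : ℕ} {y : G}

theorem cj_inv_cj (y : G) (A : Subgroup G) : MulAut.conj y⁻¹ • MulAut.conj y • A = A := by
  rw [conj_conj, inv_mul_cancel, map_one, one_smul]

theorem cj_cj_inv (y : G) (A : Subgroup G) : MulAut.conj y • MulAut.conj y⁻¹ • A = A := by
  rw [conj_conj, mul_inv_cancel, map_one, one_smul]

theorem chT_conj {A : Subgroup G} {j : ℕ} {x : G} (hy : y ∈ M) (h : ChT 𝒯 M S A j x) :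
    ChT 𝒯 M S (MulAut.conj y • A) j (y * x) := by
  obtain ⟨a, ha, haW, hax⟩ := h
  refine ⟨y * a, mul_mem hy ha, ?_, hax.mul_left y⟩
  rw [← conj_conj]
  exact conj_le_iff.2 haW

theorem chT_conj_iff {A : Subgroup G} {j : ℕ} {x : G} (hy : y ∈ M) :
    ChT 𝒯 M S (MulAut.conj y • A) j (y * x) ↔ ChT 𝒯 M S A j x := by
  refine ⟨fun h => ?_, chT_conj hy⟩
  have h1 := chT_conj (inv_mem hy) h
  rwa [cj_inv_cj, inv_mul_cancel_left] at h1

/-- `B` -/
abbrev BF (𝒯 : Set (Subgroup G)) (M S V : Subgroup G) (n : ℕ) (F : Subgroup G) : Subgroup G :=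
  BLT 𝒯 M S V F n

/-- `I = V ∩ B` -/
abbrev IF (𝒯 : Set (Subgroup G)) (M S V : Subgroup G) (n : ℕ) (F : Subgroup G) : Subgroup G :=
  V ⊓ BLT 𝒯 M S V F n

theorem BBT_conj_le (hM : M ≤ normalizer (V : Set G)) (hy : y ∈ M) :
    MulAut.conj y • BBT 𝒯 M S V F n ≤ BBT 𝒯 M S V (MulAut.conj y • F) n := by
  have hyV := hM hy
  rw [← conj_le_iff (g := y⁻¹), cj_inv_cj]
  refine sSup_le ?_
  rintro _ ⟨l, ⟨j, hj, g, hg, R, hR, rfl, hl⟩, x, hx, rfl⟩
  rw [← conj_le_iff (g := y), cj_cj_inv]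
  refine le_sSup ⟨MulAut.conj y • MulAut.conj g • zl S R, ⟨j, hj, y * g, ?_, R, hR, ?_, ?_⟩, y * x * y⁻¹, ?_, ?_⟩
  · rw [← WW_conj hyV]
    exact chT_conj hy hg
  · rw [conj_conj]
  · rw [← EE_conj hyV]
    exact conj_le_iff.2 hl
  · rw [← conj_centralizer, mem_conj]
    have e : y⁻¹ * (y * x * y⁻¹) * y = x := by group
    rwa [e]
  · rw [conj_conj, conj_conj, conj_conj, conj_conj]
    congr 1
    group

theorem BBT_conj (hM : M ≤ normalizer (V : Set G)) (hy : y ∈ M) :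
    BBT 𝒯 M S V (MulAut.conj y • F) n = MulAut.conj y • BBT 𝒯 M S V F n := by
  refine le_antisymm ?_ (BBT_conj_le hM hy)
  have h1 := BBT_conj_le (𝒯 := 𝒯) (S := S) (F := MulAut.conj y • F) (n := n) hM (inv_mem hy)
  rw [cj_inv_cj] at h1
  have h2 := conj_le_iff (g := y).2 h1
  rwa [cj_cj_inv] at h2

theorem BF_conj (hM : M ≤ normalizer (V : Set G)) (hy : y ∈ M) :
    BF 𝒯 M S V n (MulAut.conj y • F) = MulAut.conj y • BF 𝒯 M S V n F := by
  rw [BF, BLT, BBT_conj hM hy, ← Subgroup.smul_sup]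

theorem IF_conj (hM : M ≤ normalizer (V : Set G)) (hy : y ∈ M) :
    IF 𝒯 M S V n (MulAut.conj y • F) = MulAut.conj y • IF 𝒯 M S V n F := by
  have h1 := BF_conj (𝒯 := 𝒯) (S := S) (F := F) (n := n) hM hy
  rw [BF] at h1
  rw [IF, IF, h1, Subgroup.smul_inf, conj_eq_of_norm (hM hy)]

theorem frT_conj [Finite G] {S : Sylow 2 G} (h : FrT 𝒯 S M V F n) (hy : y ∈ M)
    (hW : NOne.Flat.WW V (MulAut.conj y • F) ≤ (S : Subgroup G)) (hne : 𝒯.Nonempty) : FrT 𝒯 S M V (MulAut.conj y • F) n := by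
  have hyV := h.MV hy
  refine { hc := h.hc, noff := h.noff, hyp := h.hyp.conj hyV, TT := h.TT, PM := h.PM, MV := h.MV, ZV := h.ZV
           least := ?_, one := ?_ }
  · intro j hj g hg R hR
    rw [← WW_conj hyV] at hg
    have h1 : ChT 𝒯 M (S : Subgroup G) (NOne.Flat.WW V F) j (y⁻¹ * g) := by
      rw [← chT_conj_iff hy, mul_inv_cancel_left]
      exact hg
    have h2 := conj_le_iff (g := y).2 (h.least j hj _ h1 R hR)
    rwa [conj_conj, mul_inv_cancel_left, EE_conj hyV] at h2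
  · refine ChT.mono (Nat.zero_le n) hne ?_
    exact ⟨1, one_mem _, by rw [map_one, one_smul]; exact hW, Gal.zero _⟩

end conj

/-! ### the front of (S1) -/

variable [Finite G] {S : Sylow 2 G} {P P₁ V F : Subgroup G} {n : ℕ}

/-- The front of (S1). -/
structure Fnt (S : Sylow 2 G) (P P₁ V F : Subgroup G) (n : ℕ) : Prop where
  fr : FrT (TT (S : Subgroup G) P P₁) S (P ⊔ P₁) V F n
  WS : NOne.Flat.WW V F ≤ (S : Subgroup G)
  one_le : 1 ≤ n

namespace Fnt

variable (h : Fnt S P P₁ V F n)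
include h

theorem hyp : NOne.Flat.Hyp V F := h.fr.hyp

theorem bh : BH V F (BF (TT (S : Subgroup G) P P₁) (P ⊔ P₁) (S : Subgroup G) V n F) := bhT h.fr

theorem par₁ : IsParS (S : Subgroup G) P₁ := h.fr.TT _ P₁_mem_TT

theorem par : IsParS (S : Subgroup G) P := h.fr.TT _ P_mem_TT

theorem norm {y : G} (hy : y ∈ P ⊔ P₁) : y ∈ normalizer (V : Set G) := h.fr.MV hy

/-- `S ≤ Y` -/
theorem S_le : (S : Subgroup G) ≤ P ⊔ P₁ := h.par.le.trans le_sup_left

theorem conj {y : G} (hy : y ∈ P ⊔ P₁) (hW : MulAut.conj y • NOne.Flat.WW V F ≤ (S : Subgroup G)) :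
    Fnt S P P₁ V (MulAut.conj y • F) n where
  fr := frT_conj h.fr hy (by rwa [← WW_conj (h.norm hy)]) ⟨P, P_mem_TT⟩
  WS := by rwa [← WW_conj (h.norm hy)]
  one_le := h.one_le

/-- the chambers of `Δ` -/
theorem ch {g : G} (hg : g ∈ P ⊔ P₁) (hW : NOne.Flat.WW V F ≤ MulAut.conj g • (S : Subgroup G)) :
    ChT (TT (S : Subgroup G) P P₁) (P ⊔ P₁) (S : Subgroup G) (NOne.Flat.WW V F) 0 g := ⟨g, hg, hW, Gal.zero _⟩

theorem ch_one : ChT (TT (S : Subgroup G) P P₁) (P ⊔ P₁) (S : Subgroup G) (NOne.Flat.WW V F) 0 1 :=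
  h.ch (one_mem _) (by rw [map_one, one_smul]; exact h.WS)

/-- lines of the chambers of `Δ` are good -/
theorem good {g : G} (hg : g ∈ P ⊔ P₁) (hW : NOne.Flat.WW V F ≤ MulAut.conj g • (S : Subgroup G)) {R : Subgroup G}
    (hR : R ∈ TT (S : Subgroup G) P P₁) : MulAut.conj g • zl (S : Subgroup G) R ≤ EE V F :=
  h.fr.least 0 (Nat.lt_of_lt_of_le Nat.zero_lt_one h.one_le) g (h.ch hg hW) R hR

/-- good lines at distance `≤ n` lie in `B` -/
theorem line_le_B {j : ℕ} (hj : j ≤ n) {g : G}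
    (hg : ChT (TT (S : Subgroup G) P P₁) (P ⊔ P₁) (S : Subgroup G) (NOne.Flat.WW V F) j g) {R : Subgroup G}
    (hR : R ∈ TT (S : Subgroup G) P P₁) (hE : MulAut.conj g • zl (S : Subgroup G) R ≤ EE V F) :
    MulAut.conj g • zl (S : Subgroup G) R ≤ BF (TT (S : Subgroup G) P P₁) (P ⊔ P₁) (S : Subgroup G) V n F :=
  (FrT.le_BB' (FrT.mem_Gd hj hg hR hE)).trans le_sup_left

/-- good lines at distance `≤ n` lie in `I` -/
theorem line_le_I {j : ℕ} (hj : j ≤ n) {g : G}
    (hg : ChT (TT (S : Subgroup G) P P₁) (P ⊔ P₁) (S : Subgroup G) (NOne.Flat.WW V F) j g) {R : Subgroup G}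
    (hR : R ∈ TT (S : Subgroup G) P P₁) (hE : MulAut.conj g • zl (S : Subgroup G) R ≤ EE V F) :
    MulAut.conj g • zl (S : Subgroup G) R ≤ IF (TT (S : Subgroup G) P P₁) (P ⊔ P₁) (S : Subgroup G) V n F :=
  le_inf (h.fr.line_le_V (h.fr.mem_M hg) hR) (h.line_le_B hj hg hR hE)

/-- the lines of the chambers of `Δ` lie in `I` -/
theorem line_le_I' {g : G} (hg : g ∈ P ⊔ P₁) (hW : NOne.Flat.WW V F ≤ MulAut.conj g • (S : Subgroup G)) {R : Subgroup G}
    (hR : R ∈ TT (S : Subgroup G) P P₁) :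
    MulAut.conj g • zl (S : Subgroup G) R ≤ IF (TT (S : Subgroup G) P P₁) (P ⊔ P₁) (S : Subgroup G) V n F :=
  h.line_le_I (Nat.zero_le n) (h.ch hg hW) hR (h.good hg hW hR)

/-- `V_R ≤ I`, `R ∈ TT` -/
theorem zl_le_I {R : Subgroup G} (hR : R ∈ TT (S : Subgroup G) P P₁) :
    zl (S : Subgroup G) R ≤ IF (TT (S : Subgroup G) P P₁) (P ⊔ P₁) (S : Subgroup G) V n F := by
  have h1 := h.line_le_I' (one_mem _) (by rw [map_one, one_smul]; exact h.WS) hR
  rwa [map_one, one_smul] at h1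

/-- `V_R^p` for `R ∈ TT`, `p ∈ R' ∈ TT`: in `I`, if good -/
theorem line_le_I_one {R R' : Subgroup G} (hR : R ∈ TT (S : Subgroup G) P P₁) (hR' : R' ∈ TT (S : Subgroup G) P P₁)
    {p : G} (hp : p ∈ R') (hE : MulAut.conj p • zl (S : Subgroup G) R ≤ EE V F) :
    MulAut.conj p • zl (S : Subgroup G) R ≤ IF (TT (S : Subgroup G) P P₁) (P ⊔ P₁) (S : Subgroup G) V n F := by
  have h1 := h.ch_one.mul hR' hp
  rw [one_mul] at h1
  exact h.line_le_I h.one_le h1 hR hE

/-- `B ≤ S` -/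
theorem B_le_S : BF (TT (S : Subgroup G) P P₁) (P ⊔ P₁) (S : Subgroup G) V n F ≤ (S : Subgroup G) := by
  have h1 := Pas.BL_le_conjT h.fr (Nat.zero_le n) h.ch_one
  rwa [map_one, one_smul] at h1

end Fnt

/-- `N_P(S)` acts on the types. -/
theorem zl_conj {v : G} (hv : v ∈ normalizer ((S : Subgroup G) : Set G)) (R : Subgroup G) :
    MulAut.conj v • zl (S : Subgroup G) R = zl (S : Subgroup G) (MulAut.conj v • R) := by
  have h1 := zl_map (MulAut.conj v).toMonoidHom (MulAut.conj v).injective (S : Subgroup G) R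
  have h2 : (S : Subgroup G).map (MulAut.conj v).toMonoidHom = S := conj_eq_of_norm hv
  rw [h2] at h1
  exact h1.symm

/-! ### the local form of (S1) -/

/-- **(S1) at one `F`**: `P₁` active with `C_Z(P₁) ≠ 1`, `P ∈ P**` passive. -/
structure Sg (S : Sylow 2 G) (P P₁ F : Subgroup G) : Prop extends WSt S P₁ F where
  hz : zc (S : Subgroup G) ⊓ centralizer (P₁ : Set G) ≠ ⊥
  hP : PSS (S : Subgroup G) P
  hp : NOne.Flat.WW (X0 (S : Subgroup G)) F ≤ o2 P

theorem sg_of_rad (h : Rad S) (w : WSt S P₁ F) (hP : PSS (S : Subgroup G) P) : Sg S P P₁ F :=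
  { toWSt := w, hz := h.rad P₁ F w, hP := hP, hp := h.pas hP w.hyp w.WS }

namespace Sg

variable (h : Sg S P P₁ F)
include h

/-- `|Z| > 2` -/
theorem two : ∃ z ∈ zc (S : Subgroup G), ∃ z' ∈ zc (S : Subgroup G), z ≠ 1 ∧ z' ≠ 1 ∧ z ≠ z' := by
  obtain ⟨z, hz, hz1⟩ := ThmB.Main.exists_ne h.hz
  by_contra hcon
  push Not at hcon
  apply ThmB.Main.not_cent h.par
  intro g hg
  rw [mem_centralizer_iff]
  intro z' hz'
  by_cases h1 : z' = 1
  · rw [h1, one_mul, mul_one]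
  · have e := hcon z hz.1 z' hz' hz1 h1
    rw [← e]
    exact (mem_centralizer_iff.1 hz.2 g hg).symm

theorem not_le : ¬ zl (S : Subgroup G) P₁ ≤ zl (S : Subgroup G) P := by
  intro h1
  apply h.mv
  rw [← IsParS.inf_centralizer S h.ctx.char2 h.par]
  have h2 := h.hp
  rw [← IsParS.inf_centralizer S h.ctx.char2 h.hP.par] at h2
  exact le_inf h.WS ((h2.trans inf_le_right).trans (centralizer_le h1))

theorem not_off : ¬ ∃ A ≤ P ⊔ P₁, FFThm.OffM (zl (S : Subgroup G) (P ⊔ P₁)) A :=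
  GFF.S1.not_off (h.toHypC.hypN h.hP.par h.hP.nonLoc) (h.ty P h.hP) h.par (Or.inr h.two) h.not_le

theorem Y_le : P ⊔ P₁ ≤ normalizer (X0 (S : Subgroup G) : Set G) :=
  (sup_le (par_le h.hP.par) (par_le h.par)).trans (M0_norm _)

theorem not_le_EE : ¬ zl (S : Subgroup G) (P ⊔ P₁) ≤ EE (X0 (S : Subgroup G)) F := by
  intro hE
  refine h.not_off ⟨NOne.Flat.WW (X0 (S : Subgroup G)) F, h.WS.trans (h.par.le.trans le_sup_right), ?_⟩
  have hLV : zl (S : Subgroup G) (P ⊔ P₁) ≤ X0 (S : Subgroup G) := hE.trans inf_le_left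
  have h1 := h.hyp.elemM_W
  refine { sq := fun a ha => centralizer_le hLV (h1.sq a ha)
           comm := fun a ha b hb => centralizer_le hLV (h1.comm a ha b hb)
           ne := fun hc => h.mv ?_
           le := FFThm.relIndex_le_iff.2 (h.hyp.off_of_le_all hE) }
  rw [← IsParS.inf_centralizer S h.ctx.char2 h.par]
  refine le_inf h.WS (hc.trans (centralizer_le ?_))
  exact ZN.zl_le ZN.zc_le_zl (le_sup_right.trans (ZN.le_normalizer_zl _ _))

end Sg

/-- **The front exists.** -/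
theorem exists_fnt (h : Sg S P P₁ F) :
    ∃ n, Fnt S P P₁ (X0 (S : Subgroup G)) F n ∧ ∃ g R,
      ChT (TT (S : Subgroup G) P P₁) (P ⊔ P₁) (S : Subgroup G) (NOne.Flat.WW (X0 (S : Subgroup G)) F) n g ∧
      R ∈ TT (S : Subgroup G) P P₁ ∧ ¬ MulAut.conj g • zl (S : Subgroup G) R ≤ EE (X0 (S : Subgroup G)) F := by
  classical
  have hMV := h.Y_le
  have hTT : ∀ R ∈ TT (S : Subgroup G) P P₁, IsParS (S : Subgroup G) R := by
    rintro R (rfl | ⟨v, hv, rfl⟩)
    · exact h.hP.par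
    · exact parS_conj h.par hv.2
  have wf : WFr S (M0 (S : Subgroup G)) (X0 (S : Subgroup G)) F :=
    { hc := h.ctx.char2, noff := h.noFF, low := h.low, hyp := h.hyp
      PM := fun R hR => par_le hR, MV := M0_norm _, ZV := h.zc_le_X0, WS := h.WS }
  have hYM : P ⊔ P₁ ≤ M0 (S : Subgroup G) := sup_le (par_le h.hP.par) (par_le h.par)
  have hex : ∃ n : ℕ, ∃ g R, ChT (TT (S : Subgroup G) P P₁) (P ⊔ P₁) (S : Subgroup G)
      (NOne.Flat.WW (X0 (S : Subgroup G)) F) n g ∧ R ∈ TT (S : Subgroup G) P P₁ ∧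
      ¬ MulAut.conj g • zl (S : Subgroup G) R ≤ EE (X0 (S : Subgroup G)) F := by
    by_contra hcon
    push Not at hcon
    apply h.not_le_EE
    refine iSup_le fun y => ?_
    obtain ⟨k, hk⟩ := Pas.exists_galT (le_sSup_TT (S := (S : Subgroup G)) y.2)
    have h1 := hcon k y P ⟨1, one_mem _, by rw [map_one, one_smul]; exact h.WS, hk⟩ P_mem_TT
    exact (conj_le_iff.2 (MinSimple.VModule.zc_le_zl (S : Subgroup G) P)).trans h1
  obtain ⟨g, R, hg, hR, hgR⟩ := Nat.find_spec hex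
  have hmin := fun j (hj : j < Nat.find hex) => Nat.find_min hex hj
  set n := Nat.find hex with hn
  have hn1 : 1 ≤ n := by
    by_contra h0
    have h0 : n = 0 := by omega
    rw [h0] at hg
    have hgM := hg.mem TT_le
    exact hgR (wf.good (hYM hgM) hg.zero_le (hTT R hR))
  refine ⟨n, ⟨⟨h.ctx.char2, h.noFF, h.hyp, hTT, TT_le, hMV, h.zc_le_X0, ?_, ?_⟩, h.WS, hn1⟩, g, R, hg, hR, hgR⟩
  · intro j hj x hx Q hQ
    by_contra hcon
    exact hmin j hj ⟨x, Q, hx, hQ, hcon⟩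
  · refine ChT.mono (Nat.zero_le n) ⟨P, P_mem_TT⟩ ?_
    exact ⟨1, one_mem _, by rw [map_one, one_smul]; exact h.WS, Gal.zero _⟩

/-- **The frame `SO` of (S1)** from the front. -/
theorem Fnt.so (h : Fnt S P P₁ V F n) (act : ¬ NOne.Flat.WW V F ≤ o2 P₁) :
    SO S V F (BF (TT (S : Subgroup G) P P₁) (P ⊔ P₁) (S : Subgroup G) V n F) P P₁ :=
  { toBH := h.bh
    hc := h.fr.hc
    hP := h.par
    hP₁ := h.par₁
    PV := le_sup_left.trans h.fr.MV
    P₁V := le_sup_right.trans h.fr.MV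
    ZV := h.fr.ZV
    WS := h.WS
    act := act
    line0 := fun y hy hW => h.line_le_B (Nat.zero_le n) (h.ch hy hW) P₁_mem_TT (h.good hy hW P₁_mem_TT)
    line1 := by
      intro g hg v hv hN hE
      have h1 : MulAut.conj (g * v) • zl (S : Subgroup G) P₁ =
          MulAut.conj g • zl (S : Subgroup G) (MulAut.conj v • P₁) := by
        rw [← zl_conj hN, conj_conj]
      rw [h1] at hE ⊢
      have h2 := h.ch_one.mul P₁_mem_TT hg
      rw [one_mul] at h2
      exact h.line_le_B h.one_le h2 (conj_mem_TT ⟨hv, hN⟩) hE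
    BS := by
      intro g hg
      have h2 := h.ch_one.mul P₁_mem_TT hg
      rw [one_mul] at h2
      exact Pas.BL_le_conjT h.fr h.one_le h2 }

/-- **`SO` for one `F`.** -/
theorem exists_so (h : Sg S P P₁ F) :
    ∃ n, Fnt S P P₁ (X0 (S : Subgroup G)) F n ∧
      SO S (X0 (S : Subgroup G)) F (BF (TT (S : Subgroup G) P P₁) (P ⊔ P₁) (S : Subgroup G) (X0 (S : Subgroup G)) n F)
        P P₁ ∧ ∃ g R,
      ChT (TT (S : Subgroup G) P P₁) (P ⊔ P₁) (S : Subgroup G) (NOne.Flat.WW (X0 (S : Subgroup G)) F) n g ∧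
      R ∈ TT (S : Subgroup G) P P₁ ∧ ¬ MulAut.conj g • zl (S : Subgroup G) R ≤ EE (X0 (S : Subgroup G)) F := by
  obtain ⟨n, hf, hbad⟩ := exists_fnt h
  exact ⟨n, hf, hf.so h.mv, hbad⟩

/-- passivity of `P` for all conjugates, from `Rad` -/
theorem pas_of_rad (h : Rad S) (w : WSt S P₁ F) (hP : PSS (S : Subgroup G) P) :
    ∀ y ∈ P ⊔ P₁, MulAut.conj y • NOne.Flat.WW (X0 (S : Subgroup G)) F ≤ (S : Subgroup G) →
      MulAut.conj y • NOne.Flat.WW (X0 (S : Subgroup G)) F ≤ o2 P := by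
  intro y hy hW
  have h1 := (sg_of_rad h w hP).Y_le hy
  rw [WW_conj h1] at hW ⊢
  exact h.pas hP (w.hyp.conj h1) hW

end Cfsg.Agent.Omega.NO3S.SOne

end

section


/-!
# GammaFF, (S1), local form

`RadW S P R F` : the W-stage, `R` active with `C_Z(R) ≠ 1`, `P ∈ P**` with `W_F ≤ O₂(P)` (for this `F` only).

* `RadW.two` : `|Z| > 2`; `RadW.not_off` : `⟨Z^Y⟩` is not FF, `Y = ⟨P, R⟩`; `RadW.not_le_EE` : `⟨Z^Y⟩ ≰ E_F`;
* `RadW.tr` : `P ∩ N(S)` is transitive on `Z#`;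
* `Rad.radW` : in the situation `Rad S` every `P ∈ P**` and every active `R` are in this situation.
-/

set_option autoImplicit false
set_option linter.unusedSectionVars false

namespace Cfsg.Agent.Omega.NO3S.GFF.S1

open Subgroup Cfsg Cfsg.Agent.ZN Cfsg.Agent.Omega.MinPar Cfsg.Agent.Omega.Frame
open Cfsg.Agent.Omega.NO3S Cfsg.Agent.Omega.NO3S.ThmB
open Cfsg.Agent.Omega.FFThm (NatKM SymKM OffM ElemM NoOverM StmtM ConclM)
open Cfsg.Agent.Omega.FrameFF (cv)
open Cfsg.Agent.Omega.FrameNOFF (CZ)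
open Cfsg.Agent.Omega.NO3S.Level (W0 WSt X0 M0 K0 M0_norm S_le_M0 par_le X0_comm X0_sq)
open Cfsg.Agent.Omega.NOne.Flat (EE)

universe u

variable {G : Type u} [Group G] [Finite G] {S : Sylow 2 G} {P R F : Subgroup G}

/-- `P ∩ N(S)` is transitive on `Z#` for `P ∈ P**`. -/
theorem tr_zc (h : HypN S P) (hty : ThmB.Main.Ty (S : Subgroup G) P) :
    ∀ z ∈ zc (S : Subgroup G), ∀ z' ∈ zc (S : Subgroup G), z ≠ 1 → z' ≠ 1 →
      ∃ g ∈ P, g ∈ normalizer ((S : Subgroup G) : Set G) ∧ g * z * g⁻¹ = z' := by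
  intro z hz z' hz' h1 h1'
  have hG := h.ctx.char2
  by_cases hne : z = z'
  · exact ⟨1, one_mem _, one_mem _, by rw [one_mul, inv_one, mul_one]; exact hne⟩
  rcases hty with h3 | h3
  · exact absurd (h3 z hz z' hz' h1 h1') hne
  rcases h3 with ⟨F0, j1, j2, j3, k0, -, ⟨N⟩⟩ | ⟨k0, m, hk0, hm, ⟨N⟩⟩
  · have hWP : P ≤ normalizer (zl (S : Subgroup G) P : Set G) := le_normalizer_zl _ _
    have hS : ChoiceSit.Syl (S : Subgroup G) P := OneLine.syl_of h.star
    have N' := N.toNatK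
    rw [h.toHyp.cv] at N'
    have hZ := ThmB.Main.zc_eq hG h.star.isLoc
    refine TrNat.tr N' hWP hS z ?_ z' ?_ h1 h1'
    · rw [hZ]; exact hz
    · rw [hZ]; exact hz'
  · exact absurd (ThmB.Main.sym_zc hG h.star h.toHyp.cv hk0 (by omega) N.toSymK hz hz' h1 h1') hne

/-- **(S1), local form.** -/
structure RadW (S : Sylow 2 G) (P R F : Subgroup G) : Prop extends WSt S R F where
  pss : PSS (S : Subgroup G) P
  hz : zc (S : Subgroup G) ⊓ centralizer (R : Set G) ≠ ⊥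
  hp : NOne.Flat.WW (X0 (S : Subgroup G)) F ≤ o2 P

theorem Rad.radW (h : Rad S) (w : WSt S R F) (hP : PSS (S : Subgroup G) P) : RadW S P R F :=
  { toWSt := w, pss := hP, hz := h.rad R F w, hp := h.pas hP w.hyp w.WS }

namespace RadW

variable (w : RadW S P R F)
include w

theorem hypN : HypN S P := w.toHypC.hypN w.pss.par w.pss.nonLoc

/-- `|Z| > 2` -/
theorem two : ∃ z ∈ zc (S : Subgroup G), ∃ z' ∈ zc (S : Subgroup G), z ≠ 1 ∧ z' ≠ 1 ∧ z ≠ z' := by
  obtain ⟨z, hz, hz1⟩ := ThmB.Main.exists_ne w.hz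
  by_contra hcon
  push Not at hcon
  apply ThmB.Main.not_cent w.par
  intro g hg
  rw [mem_centralizer_iff]
  intro z' hz'
  by_cases h1 : z' = 1
  · rw [h1, one_mul, mul_one]
  · have e := hcon z hz.1 z' hz' hz1 h1
    rw [← e]
    exact (mem_centralizer_iff.1 hz.2 g hg).symm

/-- **`P ∩ N(S)` is transitive on `Z#`** -/
theorem tr : ∀ z ∈ zc (S : Subgroup G), ∀ z' ∈ zc (S : Subgroup G), z ≠ 1 → z' ≠ 1 →
    ∃ g ∈ P, g ∈ normalizer ((S : Subgroup G) : Set G) ∧ g * z * g⁻¹ = z' :=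
  tr_zc w.hypN (w.ty P w.pss)

theorem not_le : ¬ zl (S : Subgroup G) R ≤ zl (S : Subgroup G) P := by
  intro h1
  apply w.mv
  rw [← IsParS.inf_centralizer S w.ctx.char2 w.par]
  have h2 := w.hp
  rw [← IsParS.inf_centralizer S w.ctx.char2 w.pss.par] at h2
  exact le_inf w.WS ((h2.trans inf_le_right).trans (centralizer_le h1))

/-- `⟨Z^Y⟩` has no offender, `Y = ⟨P, R⟩`. -/
theorem not_off : ¬ ∃ A ≤ P ⊔ R, OffM (zl (S : Subgroup G) (P ⊔ R)) A :=
  S1.not_off w.hypN (w.ty P w.pss) w.par (Or.inr w.two) w.not_le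

/-- `Y = ⟨P, R⟩ ≤ N_G(X₀)` -/
theorem Y_le : P ⊔ R ≤ normalizer (X0 (S : Subgroup G) : Set G) :=
  (sup_le (par_le w.pss.par) (par_le w.par)).trans (M0_norm _)

/-- **`⟨Z^Y⟩ ≰ E_F`.** -/
theorem not_le_EE : ¬ zl (S : Subgroup G) (P ⊔ R) ≤ EE (X0 (S : Subgroup G)) F := by
  intro hE
  refine w.not_off ⟨NOne.Flat.WW (X0 (S : Subgroup G)) F, w.WS.trans (w.par.le.trans le_sup_right), ?_⟩
  have hLV : zl (S : Subgroup G) (P ⊔ R) ≤ X0 (S : Subgroup G) := hE.trans inf_le_left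
  have h1 := w.hyp.elemM_W
  refine { sq := fun a ha => centralizer_le hLV (h1.sq a ha)
           comm := fun a ha b hb => centralizer_le hLV (h1.comm a ha b hb)
           ne := fun hc => w.mv ?_
           le := FFThm.relIndex_le_iff.2 (w.hyp.off_of_le_all hE) }
  rw [← IsParS.inf_centralizer S w.ctx.char2 w.par]
  refine le_inf w.WS (hc.trans (centralizer_le ?_))
  exact ZN.zl_le ZN.zc_le_zl (le_sup_right.trans (ZN.le_normalizer_zl _ _))

end RadW

end Cfsg.Agent.Omega.NO3S.GFF.S1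

end

section


/-!
# GammaFF, (S1): natural modules with radical

`M : NatKM F S P V D k` with `D` arbitrary, split or not.  `AmbD M` : the ambient facts, `uq` : an element of `P` which is
trivial on `V / D` and on `D` centralises `V`.

* `AmbD.blk` : `g` acting as `A ∈ SL₂(F)^k` centralises the vectors supported where `A = 1`;
* `RtD M i A` : `A` acts as the full root group of the `i`-th factor; `C_V(A) = {v | e v i 1 = 0}` if `A` is an offender;
* `RtD.of` : a minimal offender is a root group; `RtD.of_const` : so is an offender with constant commutators.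
-/

set_option autoImplicit false
set_option linter.unusedSectionVars false
set_option linter.style.haveILetI false

namespace Cfsg.Agent.Omega.NO3S.SOne.NTD

open Subgroup Cfsg Cfsg.Agent.ZN Cfsg.Agent.ZN.ChoiceBase
open Cfsg.Agent.Omega.NOThreeL Cfsg.Agent.Omega.NOThreeL.NF
open Cfsg.Agent.Omega.FFThm (ElemM OffM NoOverM ConclM NatKM ActsSL relIndex_le_iff)
open Cfsg.Agent.Omega.NatPair (ap ap_mul ap_one ap_inv_ap ap_zero' ap_one' ext2 exists_ap)
open Cfsg.Agent.Omega.NOThreeL.NF.NatR (ap_up ap_lo mulSingle_mul mulSingle_inv mulSingle_zero Const)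
open Cfsg.Agent.Lib.SL2Mat
open scoped commutatorElement

universe u

variable {G : Type u} [Group G] {F : Type} [Field F] {S P V D : Subgroup G} {k : ℕ}

/-- `g` acts on `V / D` as `A ∈ SL₂(F)^k` and trivially on `D`. -/
abbrev Ac (M : NatKM F S P V D k) (g : G) (A : Fin k → Matrix.SpecialLinearGroup (Fin 2) F) : Prop :=
  ActsSL M.e V D g A

/-- The ambient facts. -/
structure AmbD (M : NatKM F S P V D k) : Prop where
  SP : S ≤ P
  PV : P ≤ normalizer (V : Set G)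
  comm : ∀ v ∈ V, ∀ w ∈ V, v * w = w * v
  DV : D ≤ V
  uq : ∀ g ∈ P, (∀ v ∈ V, M.e (g * v * g⁻¹) = M.e v) → (∀ d ∈ D, g * d = d * g) → g ∈ centralizer (V : Set G)

section basic

variable {M : NatKM F S P V D k}

theorem e_one : M.e 1 = 0 := by
  have h := M.mul 1 (one_mem _) 1 (one_mem _)
  rw [one_mul] at h
  exact left_eq_add.1 h

theorem e_inv {v : G} (hv : v ∈ V) : M.e v⁻¹ = - M.e v := by
  have h := M.mul v hv v⁻¹ (inv_mem hv)
  rw [mul_inv_cancel, e_one] at h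
  exact (neg_eq_of_add_eq_zero_right h.symm).symm

theorem mem_D {v w : G} (hv : v ∈ V) (hw : w ∈ V) (h : M.e v = M.e w) : v * w⁻¹ ∈ D := by
  have h1 := M.mul v hv w⁻¹ (inv_mem hw)
  rw [e_inv hw, h, add_neg_cancel] at h1
  exact (M.ker _ (mul_mem hv (inv_mem hw))).1 h1

theorem exists_pt (i : Fin k) (x : Fin 2 → F) : ∃ v ∈ V, M.e v i = x ∧ ∀ j, j ≠ i → M.e v j = 0 := by
  classical
  obtain ⟨v, hv, hev⟩ := M.surj (Pi.single i x)
  exact ⟨v, hv, by rw [hev, Pi.single_eq_same], fun j hj => by rw [hev]; exact Pi.single_eq_of_ne hj _⟩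

variable (h : AmbD M)
include h

theorem AmbD.cm {g v : G} (hg : g ∈ P) (hv : v ∈ V) : g * v * g⁻¹ ∈ V := (mem_normalizer_iff.1 (h.PV hg) v).1 hv

theorem AmbD.mul {g g' : G} {A B : Fin k → Matrix.SpecialLinearGroup (Fin 2) F} (hg' : g' ∈ P) (h1 : Ac M g A)
    (h2 : Ac M g' B) : Ac M (g * g') (A * B) := by
  refine ⟨fun v hv i => ?_, fun d hd => ?_⟩
  · have e1 : g * g' * v * (g * g')⁻¹ = g * (g' * v * g'⁻¹) * g⁻¹ := by group
    rw [e1, h1.1 _ (h.cm hg' hv), h2.1 v hv, Pi.mul_apply, ap_mul]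
  · rw [mul_assoc, h2.2 d hd, ← mul_assoc, h1.2 d hd, mul_assoc]

theorem AmbD.inv {g : G} {A : Fin k → Matrix.SpecialLinearGroup (Fin 2) F} (hg : g ∈ P) (h1 : Ac M g A) :
    Ac M g⁻¹ A⁻¹ := by
  refine ⟨fun v hv i => ?_, fun d hd => ?_⟩
  · have h2 := h1.1 _ (h.cm (inv_mem hg) hv) i
    have e1 : g * (g⁻¹ * v * g⁻¹⁻¹) * g⁻¹ = v := by group
    rw [e1] at h2
    rw [h2, Pi.inv_apply, ap_inv_ap]
  · rw [inv_mul_eq_iff_eq_mul, ← mul_assoc, h1.2 d hd, mul_inv_cancel_right]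

theorem AmbD.one {g : G} (hg : g ∈ centralizer (V : Set G)) : Ac M g 1 := by
  refine ⟨fun v hv i => ?_, fun d hd => (mem_centralizer_iff.1 hg d (h.DV hd)).symm⟩
  have e1 : g * v * g⁻¹ = v := by
    have := mem_centralizer_iff.1 hg v hv
    rw [← this]; group
  rw [e1, Pi.one_apply, ap_one]

theorem AmbD.cent {g : G} (hg : g ∈ P) (h1 : Ac M g 1) : g ∈ centralizer (V : Set G) := by
  refine h.uq g hg (fun v hv => ?_) h1.2
  funext i
  rw [h1.1 v hv i, Pi.one_apply, ap_one]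

/-- `g` acting as `A` centralises the vectors supported where `A = 1`. -/
theorem AmbD.blk {g : G} {A : Fin k → Matrix.SpecialLinearGroup (Fin 2) F} (hg : g ∈ P) (h1 : Ac M g A) {v : G}
    (hv : v ∈ V) (h0 : ∀ l, A l ≠ 1 → M.e v l = 0) : g * v * g⁻¹ = v := by
  classical
  -- the commutator with `g`
  have hmem : ∀ w ∈ V, (∀ l, A l ≠ 1 → M.e w l = 0) → g * w * g⁻¹ * w⁻¹ ∈ D := by
    intro w hw hw0
    refine mem_D (M := M) (h.cm hg hw) hw ?_
    funext l
    rw [h1.1 w hw l]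
    by_cases hl : A l = 1
    · rw [hl, ap_one]
    · rw [hw0 l hl]
      exact ext2 (by rw [ap_zero']; simp) (by rw [ap_one']; simp)
  -- `h'` acting as `B` with `A l = 1` or `B l = 1` for all `l`
  have hinv : ∀ (B : Fin k → Matrix.SpecialLinearGroup (Fin 2) F), (∀ l, A l ≠ 1 → B l = 1) →
      ∀ w ∈ V, (∀ l, A l ≠ 1 → M.e w l = 0) → ∀ g' ∈ P, Ac M g' B →
        g * (g' * w * g'⁻¹ * w⁻¹) * g⁻¹ = g' * w * g'⁻¹ * w⁻¹ := by
    intro B hB w hw hw0 g' hg' h2
    have h3 := h.mul (mul_mem (inv_mem hg) (inv_mem hg')) (h.mul hg' h1 h2) (h.mul (inv_mem hg') (h.inv hg h1) (h.inv hg' h2))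
    have h4 : A * B * (A⁻¹ * B⁻¹) = 1 := by
      funext l
      by_cases hl : A l = 1
      · simp [hl]
      · simp [hB l hl]
    rw [h4] at h3
    set z := g * g' * (g⁻¹ * g'⁻¹) with hz
    have h5 : z ∈ centralizer (V : Set G) :=
      h.cent (mul_mem (mul_mem hg hg') (mul_mem (inv_mem hg) (inv_mem hg'))) h3
    have h6 : g * g' = z * (g' * g) := by rw [hz]; group
    -- `g (g' w g'⁻¹) g⁻¹ = g' (g w g⁻¹) g'⁻¹`
    have h7 : g * (g' * w * g'⁻¹) * g⁻¹ = g' * (g * w * g⁻¹) * g'⁻¹ := by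
      have h8 : g' * (g * w * g⁻¹) * g'⁻¹ ∈ V := h.cm hg' (h.cm hg hw)
      have h9 := mem_centralizer_iff.1 h5 _ h8
      calc g * (g' * w * g'⁻¹) * g⁻¹ = (g * g') * w * (g * g')⁻¹ := by group
        _ = z * (g' * g) * w * (z * (g' * g))⁻¹ := by rw [h6]
        _ = z * (g' * (g * w * g⁻¹) * g'⁻¹) * z⁻¹ := by group
        _ = g' * (g * w * g⁻¹) * g'⁻¹ := by rw [← h9]; group
    have h10 := hmem w hw hw0
    have h11 : g * w * g⁻¹ = (g * w * g⁻¹ * w⁻¹) * w := by group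
    have h12 := h2.2 _ h10
    have e : g * (g' * w * g'⁻¹ * w⁻¹) * g⁻¹ = (g * (g' * w * g'⁻¹) * g⁻¹) * (g * w * g⁻¹)⁻¹ := by group
    rw [e, h7]
    have e2 : g' * (g * w * g⁻¹) * g'⁻¹ = (g * w * g⁻¹ * w⁻¹) * (g' * w * g'⁻¹) := by
      calc g' * (g * w * g⁻¹) * g'⁻¹ = g' * (g * w * g⁻¹ * w⁻¹) * w * g'⁻¹ := by group
        _ = (g * w * g⁻¹ * w⁻¹) * g' * w * g'⁻¹ := by rw [h12]
        _ = (g * w * g⁻¹ * w⁻¹) * (g' * w * g'⁻¹) := by group
    have e3 : (g * w * g⁻¹)⁻¹ = w⁻¹ * (g * w * g⁻¹ * w⁻¹)⁻¹ := by group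
    rw [e2, e3]
    have h13 := h.comm _ (h.DV h10) _ (mul_mem (h.cm hg' hw) (inv_mem hw))
    calc (g * w * g⁻¹ * w⁻¹) * (g' * w * g'⁻¹) * (w⁻¹ * (g * w * g⁻¹ * w⁻¹)⁻¹)
        = ((g * w * g⁻¹ * w⁻¹) * (g' * w * g'⁻¹ * w⁻¹)) * (g * w * g⁻¹ * w⁻¹)⁻¹ := by group
      _ = (g' * w * g'⁻¹ * w⁻¹) * (g * w * g⁻¹ * w⁻¹) * (g * w * g⁻¹ * w⁻¹)⁻¹ := by rw [h13]
      _ = g' * w * g'⁻¹ * w⁻¹ := mul_inv_cancel_right _ _
  -- the two generators
  obtain ⟨w₁, hw₁, he₁⟩ := M.surj fun l => if A l = 1 then ![0, 1] else 0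
  obtain ⟨w₂, hw₂, he₂⟩ := M.surj fun l => if A l = 1 then ![1, 0] else 0
  obtain ⟨g₁, hg₁, ha₁⟩ := M.lift fun l => up (M.e v l 0)
  obtain ⟨g₂, hg₂, ha₂⟩ := M.lift fun l => lo (M.e v l 1)
  have h21 := hinv _ (fun l hl => by rw [h0 l hl]; exact up_zero) w₁ hw₁ (fun l hl => by rw [he₁]; simp [hl]) g₁ hg₁ ha₁
  have h22 := hinv _ (fun l hl => by rw [h0 l hl]; exact lo_zero) w₂ hw₂ (fun l hl => by rw [he₂]; simp [hl]) g₂ hg₂ ha₂
  set a := g₁ * w₁ * g₁⁻¹ * w₁⁻¹ with ha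
  set b := g₂ * w₂ * g₂⁻¹ * w₂⁻¹ with hb
  have haV : a ∈ V := mul_mem (h.cm hg₁ hw₁) (inv_mem hw₁)
  have hbV : b ∈ V := mul_mem (h.cm hg₂ hw₂) (inv_mem hw₂)
  have hab : M.e v = M.e (a * b) := by
    rw [M.mul a haV b hbV, ha, hb, M.mul _ (h.cm hg₁ hw₁) _ (inv_mem hw₁), M.mul _ (h.cm hg₂ hw₂) _ (inv_mem hw₂),
      e_inv hw₁, e_inv hw₂]
    funext l
    rw [Pi.add_apply, Pi.add_apply, Pi.add_apply, ha₁.1 w₁ hw₁ l, ha₂.1 w₂ hw₂ l, Pi.neg_apply, Pi.neg_apply, he₁, he₂,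
      ap_up, ap_lo]
    by_cases hl : A l = 1
    · simp only [hl, if_true]
      exact ext2 (by simp) (by simp)
    · simp only [hl, if_false]
      rw [h0 l hl]
      exact ext2 (by simp) (by simp)
  have hd := mem_D (M := M) hv (mul_mem haV hbV) hab
  have h23 : v = v * (a * b)⁻¹ * (a * b) := by group
  have h24 := h1.2 _ hd
  have h25 : g * (v * (a * b)⁻¹) * g⁻¹ = v * (a * b)⁻¹ := by rw [h24, mul_inv_cancel_right]
  calc g * v * g⁻¹ = (g * (v * (a * b)⁻¹) * g⁻¹) * (g * a * g⁻¹) * (g * b * g⁻¹) := by group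
    _ = v * (a * b)⁻¹ * a * b := by rw [h25, h21, h22]
    _ = v := by group

end basic

/-! ### Root groups -/

/-- `A` acts on `V / D` as the full root group of the `i`-th factor, and trivially on `D`. -/
structure RtD (M : NatKM F S P V D k) (i : Fin k) (A : Subgroup G) : Prop where
  le : A ≤ S
  acts : ∀ a ∈ A, ∃ c : F, Ac M a (Pi.mulSingle i (up c))
  ex : ∀ c : F, ∃ a ∈ A, Ac M a (Pi.mulSingle i (up c))

section root

variable {M : NatKM F S P V D k} {i : Fin k} {A : Subgroup G}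

theorem ac_at {a v : G} {c : F} (h : Ac M a (Pi.mulSingle i (up c))) (hv : v ∈ V) :
    M.e (a * v * a⁻¹) i = ![M.e v i 0 + c * M.e v i 1, M.e v i 1] := by
  rw [h.1 v hv i, Pi.mulSingle_eq_same, ap_up]

theorem ac_ne {a v : G} {c : F} (h : Ac M a (Pi.mulSingle i (up c))) (hv : v ∈ V) {j : Fin k} (hj : j ≠ i) :
    M.e (a * v * a⁻¹) j = M.e v j := by
  rw [h.1 v hv j, Pi.mulSingle_eq_of_ne hj, ap_one]

theorem RtD.zero_of_cent (h : RtD M i A) {v : G} (hv : v ∈ V) (hc : v ∈ centralizer (A : Set G)) :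
    M.e v i 1 = 0 := by
  obtain ⟨a, ha, hac⟩ := h.ex 1
  have h1 : a * v * a⁻¹ = v := by
    rw [mem_centralizer_iff.1 hc a ha]; group
  have h2 := ac_at hac hv
  rw [h1] at h2
  have h3 := congrFun h2 0
  simp only [Matrix.cons_val_zero, one_mul] at h3
  exact left_eq_add.1 h3

theorem key_single [DecidableEq (Fin k)] (i : Fin k) (c : F) : (fun j => up ((Pi.single i c : Fin k → F) j) :
    Fin k → Matrix.SpecialLinearGroup (Fin 2) F) = Pi.mulSingle i (up c) := by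
  funext j
  by_cases hj : j = i
  · subst hj; rw [Pi.single_eq_same, Pi.mulSingle_eq_same]
  · rw [Pi.single_eq_of_ne hj, Pi.mulSingle_eq_of_ne hj, up_zero]

variable (h : AmbD M)
include h

/-- `A / C_A(V)` has order `|F|`. -/
theorem RtD.relIndex (hA : RtD M i A) : (centralizer (V : Set G)).relIndex A = Nat.card F := by
  obtain ⟨v, hv, hvi, hvj⟩ := exists_pt (M := M) i ![0, 1]
  have hval : ∀ a ∈ A, ∀ c, Ac M a (Pi.mulSingle i (up c)) → M.e (a * v * a⁻¹) i 0 = c := by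
    intro a _ c hc
    rw [ac_at hc hv, hvi]; simp
  let φ : A →* Multiplicative F :=
    { toFun := fun a => Multiplicative.ofAdd (M.e ((a : G) * v * (a : G)⁻¹) i 0)
      map_one' := by
        change Multiplicative.ofAdd (M.e ((1 : G) * v * (1 : G)⁻¹) i 0) = 1
        rw [one_mul, inv_one, mul_one, hvi]; rfl
      map_mul' := by
        rintro ⟨a, ha⟩ ⟨b, hb⟩
        obtain ⟨c, hc⟩ := hA.acts a ha
        obtain ⟨d, hd⟩ := hA.acts b hb
        have hab := h.mul (h.SP (hA.le hb)) hc hd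
        rw [mulSingle_mul] at hab
        change Multiplicative.ofAdd (M.e ((a * b) * v * (a * b)⁻¹) i 0) =
          Multiplicative.ofAdd (M.e (a * v * a⁻¹) i 0) * Multiplicative.ofAdd (M.e (b * v * b⁻¹) i 0)
        rw [hval _ (mul_mem ha hb) _ hab, hval a ha c hc, hval b hb d hd, ofAdd_add] }
  have hker : (centralizer (V : Set G)).subgroupOf A = φ.ker := by
    ext ⟨a, ha⟩
    rw [mem_subgroupOf, MonoidHom.mem_ker]
    obtain ⟨c, hc⟩ := hA.acts a ha
    have hφ : φ ⟨a, ha⟩ = Multiplicative.ofAdd c := by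
      change Multiplicative.ofAdd (M.e (a * v * a⁻¹) i 0) = _
      rw [hval a ha c hc]
    rw [hφ]
    constructor
    · intro hcen
      have h1 : a * v * a⁻¹ = v := by
        have := mem_centralizer_iff.1 hcen v hv
        change v * a = a * v at this
        rw [← this]; group
      have h2 := hval a ha c hc
      rw [h1, hvi] at h2
      rw [← h2]; rfl
    · intro h0
      have h1 : c = 0 := Multiplicative.ofAdd.injective h0
      rw [h1, mulSingle_zero] at hc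
      exact h.cent (h.SP (hA.le ha)) hc
  unfold Subgroup.relIndex
  rw [hker, index_ker]
  have hr : φ.range = ⊤ := by
    rw [MonoidHom.range_eq_top]
    intro c
    obtain ⟨a, ha, hac⟩ := hA.ex (Multiplicative.toAdd c)
    refine ⟨⟨a, ha⟩, ?_⟩
    change Multiplicative.ofAdd (M.e (a * v * a⁻¹) i 0) = _
    rw [hval a ha _ hac]; rfl
  rw [hr, Nat.card_congr (topEquiv (G := Multiplicative F)).toEquiv]
  rfl

omit h in
/-- the vectors with second coordinate 0 at `I` -/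
def YI (M : NatKM F S P V D k) (I : Set (Fin k)) : Subgroup G where
  carrier := {v | v ∈ V ∧ ∀ i ∈ I, M.e v i 1 = 0}
  mul_mem' := by
    rintro a b ⟨ha, ha1⟩ ⟨hb, hb1⟩
    exact ⟨mul_mem ha hb, fun i hi => by rw [M.mul a ha b hb, Pi.add_apply, Pi.add_apply, ha1 i hi, hb1 i hi, add_zero]⟩
  one_mem' := ⟨one_mem _, fun i _ => by rw [e_one]; rfl⟩
  inv_mem' := by
    rintro a ⟨ha, ha1⟩
    exact ⟨inv_mem ha, fun i hi => by rw [e_inv ha, Pi.neg_apply, Pi.neg_apply, ha1 i hi, neg_zero]⟩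

omit h in
theorem YI_relIndex (I : Set (Fin k)) : (YI M I).relIndex V = Nat.card (I → F) := by
  let ψ : V →* Multiplicative (I → F) :=
    { toFun := fun v => Multiplicative.ofAdd (fun i : I => M.e (v : G) i 1)
      map_one' := by
        change Multiplicative.ofAdd (fun i : I => M.e (1 : G) i 1) = 1
        rw [e_one]; rfl
      map_mul' := by
        rintro ⟨v, hv⟩ ⟨w, hw⟩
        change Multiplicative.ofAdd (fun i : I => M.e (v * w) i 1) = _
        rw [M.mul v hv w hw]; rfl }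
  have hker : (YI M I).subgroupOf V = ψ.ker := by
    ext ⟨v, hv⟩
    rw [mem_subgroupOf, MonoidHom.mem_ker]
    constructor
    · intro hc
      refine congrArg Multiplicative.ofAdd (funext fun i => ?_)
      exact hc.2 i i.2
    · intro h0
      have h1 : (fun i : I => M.e v i 1) = 0 := Multiplicative.ofAdd.injective h0
      exact ⟨hv, fun i hi => congrFun h1 ⟨i, hi⟩⟩
  unfold Subgroup.relIndex
  rw [hker, index_ker]
  have hr : ψ.range = ⊤ := by
    classical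
    rw [MonoidHom.range_eq_top]
    intro c
    obtain ⟨v, hv, hev⟩ := M.surj fun j => if hj : j ∈ I then ![0, Multiplicative.toAdd c ⟨j, hj⟩] else 0
    refine ⟨⟨v, hv⟩, ?_⟩
    change Multiplicative.ofAdd (fun i : I => M.e v i 1) = _
    rw [← ofAdd_toAdd c]
    refine congrArg Multiplicative.ofAdd (funext fun i => ?_)
    rw [hev]
    simp [i.2]
  rw [hr, Nat.card_congr (topEquiv (G := Multiplicative (I → F))).toEquiv]
  rfl

/-- an offender acting as `∏ R_i`, `i ∈ I`, centralises the vectors with second coordinates 0 at `I` -/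
theorem AmbD.fixI [Finite G] {I : Set (Fin k)} (hAS : A ≤ S)
    (h1 : ∀ a ∈ A, ∃ b : Fin k → F, (∀ i, i ∉ I → b i = 0) ∧ Ac M a fun i => up (b i))
    (h2 : ∀ b : Fin k → F, (∀ i, i ∉ I → b i = 0) → ∃ a ∈ A, Ac M a fun i => up (b i)) (hoff : OffM V A) {v : G}
    (hv : v ∈ V) (h0 : ∀ i ∈ I, M.e v i 1 = 0) : v ∈ centralizer (A : Set G) := by
  classical
  obtain ⟨v₀, hv₀, he₀⟩ := M.surj fun _ => ![0, 1]
  have hval : ∀ a : G, ∀ b : Fin k → F, Ac M a (fun i => up (b i)) → ∀ i, M.e (a * v₀ * a⁻¹) i 0 = b i := by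
    intro a b hac i
    rw [hac.1 v₀ hv₀ i, he₀, ap_up]; simp
  let φ : A →* Multiplicative (I → F) :=
    { toFun := fun a => Multiplicative.ofAdd (fun i : I => M.e ((a : G) * v₀ * (a : G)⁻¹) i 0)
      map_one' := by
        refine congrArg Multiplicative.ofAdd (funext fun i => ?_)
        change M.e ((1 : G) * v₀ * (1 : G)⁻¹) i 0 = 0
        rw [one_mul, inv_one, mul_one, he₀]; rfl
      map_mul' := by
        rintro ⟨a, ha⟩ ⟨b, hb⟩
        obtain ⟨c, -, hc⟩ := h1 a ha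
        obtain ⟨d, -, hd⟩ := h1 b hb
        have hab := h.mul (h.SP (hAS hb)) hc hd
        have e1 : ((fun i => up (c i)) * fun i => up (d i) : Fin k → Matrix.SpecialLinearGroup (Fin 2) F) =
            fun i => up (c i + d i) := funext fun i => up_mul _ _
        rw [e1] at hab
        refine congrArg Multiplicative.ofAdd (funext fun i => ?_)
        change M.e ((a * b) * v₀ * (a * b)⁻¹) i 0 = M.e (a * v₀ * a⁻¹) i 0 + M.e (b * v₀ * b⁻¹) i 0
        rw [hval _ _ hab, hval a c hc, hval b d hd] }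
  have hker : (centralizer (V : Set G)).subgroupOf A = φ.ker := by
    ext ⟨a, ha⟩
    rw [mem_subgroupOf, MonoidHom.mem_ker]
    obtain ⟨c, hc0, hc⟩ := h1 a ha
    constructor
    · intro hcen
      have h3 : a * v₀ * a⁻¹ = v₀ := by
        have := mem_centralizer_iff.1 hcen v₀ hv₀
        change v₀ * a = a * v₀ at this
        rw [← this]; group
      refine congrArg Multiplicative.ofAdd (funext fun i => ?_)
      change M.e (a * v₀ * a⁻¹) i 0 = 0
      rw [h3, he₀]; rfl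
    · intro hk
      have h3 : (fun i : I => M.e (a * v₀ * a⁻¹) i 0) = 0 := Multiplicative.ofAdd.injective hk
      have h4 : c = 0 := by
        funext j
        by_cases hj : j ∈ I
        · rw [← hval a c hc j]; exact congrFun h3 ⟨j, hj⟩
        · exact hc0 j hj
      have h5 : (fun i => up (c i) : Fin k → Matrix.SpecialLinearGroup (Fin 2) F) = 1 := by
        funext j
        rw [h4]; exact up_zero
      rw [h5] at hc
      exact h.cent (h.SP (hAS ha)) hc
  have hA : (centralizer (V : Set G)).relIndex A = Nat.card (I → F) := by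
    unfold Subgroup.relIndex
    rw [hker, index_ker]
    have hr : φ.range = ⊤ := by
      rw [MonoidHom.range_eq_top]
      intro c
      obtain ⟨a, ha, hac⟩ := h2 (fun j => if hj : j ∈ I then Multiplicative.toAdd c ⟨j, hj⟩ else 0)
        (fun j hj => by simp [hj])
      refine ⟨⟨a, ha⟩, ?_⟩
      rw [← ofAdd_toAdd c]
      refine congrArg Multiplicative.ofAdd (funext fun i => ?_)
      change M.e (a * v₀ * a⁻¹) i 0 = _
      rw [hval a _ hac]
      simp [i.2]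
    rw [hr, Nat.card_congr (topEquiv (G := Multiplicative (I → F))).toEquiv]
    rfl
  have hle : V ⊓ centralizer (A : Set G) ≤ V ⊓ YI M I := by
    rintro w ⟨hw, hwc⟩
    refine ⟨hw, hw, fun i hi => ?_⟩
    obtain ⟨a, ha, hac⟩ := h2 (Pi.single i 1) (fun j hj => by
      have : j ≠ i := fun h3 => hj (by rw [h3]; exact hi)
      rw [Pi.single_apply, if_neg this])
    have h3 : a * w * a⁻¹ = w := by
      rw [mem_centralizer_iff.1 hwc a ha]; group
    have h4 := hac.1 w hw i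
    simp only [Pi.single_eq_same] at h4
    rw [h3, ap_up] at h4
    have h5 := congrFun h4 0
    simp only [Matrix.cons_val_zero, one_mul] at h5
    exact left_eq_add.1 h5
  have h3 := relIndex_le_iff.1 hoff.le
  rw [hA, ← YI_relIndex (M := M)] at h3
  have e1 := Star.rel_mul_card V (centralizer (A : Set G))
  have e2 := Star.rel_mul_card V (YI M I)
  have h4 : Nat.card ↥(V ⊓ YI M I) ≤ Nat.card ↥(V ⊓ centralizer (A : Set G)) := by
    have hpos : 0 < (YI M I).relIndex V := Nat.pos_of_ne_zero (by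
      rintro h0
      rw [h0, zero_mul] at e2
      exact Nat.card_pos.ne' e2.symm)
    have h5 : (YI M I).relIndex V * Nat.card ↥(V ⊓ YI M I) ≤
        (YI M I).relIndex V * Nat.card ↥(V ⊓ centralizer (A : Set G)) := by
      rw [e2, ← e1]
      exact Nat.mul_le_mul_right _ h3
    exact Nat.le_of_mul_le_mul_left h5 hpos
  have h5 := Subgroup.eq_of_le_of_card_ge hle h4
  have h6 : v ∈ V ⊓ YI M I := ⟨hv, hv, h0⟩
  rw [← h5] at h6
  exact h6.2

/-- a subgroup acting as a root group inside an offender centralises `{v | e v i 1 = 0}` -/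
theorem RtD.fix [Finite G] {I : Set (Fin k)} {A B : Subgroup G} (hAS : A ≤ S) (hBA : B ≤ A)
    (h1 : ∀ a ∈ A, ∃ b : Fin k → F, (∀ i, i ∉ I → b i = 0) ∧ Ac M a fun i => up (b i))
    (h2 : ∀ b : Fin k → F, (∀ i, i ∉ I → b i = 0) → ∃ a ∈ A, Ac M a fun i => up (b i)) (hoff : OffM V A)
    (hB : RtD M i B) {v : G} (hv : v ∈ V) (h0 : M.e v i 1 = 0) : v ∈ centralizer (B : Set G) := by
  classical
  obtain ⟨v₁, hv₁, hv₁i, hv₁j⟩ := exists_pt (M := M) i (M.e v i)
  have h3 : v₁ ∈ centralizer (A : Set G) := by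
    refine h.fixI hAS h1 h2 hoff hv₁ fun j _ => ?_
    by_cases hj : j = i
    · subst hj; rw [hv₁i]; exact h0
    · rw [hv₁j j hj]; rfl
  refine mem_centralizer_iff.2 fun a ha => ?_
  obtain ⟨c, hc⟩ := hB.acts a ha
  have hw : v₁⁻¹ * v ∈ V := mul_mem (inv_mem hv₁) hv
  have h4 : a * (v₁⁻¹ * v) * a⁻¹ = v₁⁻¹ * v := by
    refine h.blk (h.SP (hB.le ha)) hc hw fun l hl => ?_
    have hli : l = i := by
      by_contra hne
      exact hl (Pi.mulSingle_eq_of_ne hne _)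
    subst hli
    rw [M.mul _ (inv_mem hv₁) v hv, Pi.add_apply, e_inv hv₁, Pi.neg_apply, hv₁i, neg_add_cancel]
  have h5 := mem_centralizer_iff.1 h3 a (hBA ha)
  have h6 : a * v₁ * a⁻¹ = v₁ := by rw [h5]; group
  have h7 : a * v * a⁻¹ = v := by
    calc a * v * a⁻¹ = (a * v₁ * a⁻¹) * (a * (v₁⁻¹ * v) * a⁻¹) := by group
      _ = v := by rw [h6, h4]; group
  exact mul_inv_eq_iff_eq_mul.1 h7

/-- the data of an offender: the support `I` is not empty -/
theorem AmbD.offI [Finite G] (hAS : A ≤ S) (hoff : OffM V A) : ∃ I : Set (Fin k), I.Nonempty ∧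
    (∀ a ∈ A, ∃ b : Fin k → F, (∀ i, i ∉ I → b i = 0) ∧ Ac M a fun i => up (b i)) ∧
      (∀ b : Fin k → F, (∀ i, i ∉ I → b i = 0) → ∃ a ∈ A, Ac M a fun i => up (b i)) := by
  obtain ⟨I, h1, h2⟩ := M.offM A hAS hoff
  refine ⟨I, ?_, h1, h2⟩
  rw [Set.nonempty_iff_ne_empty]
  rintro rfl
  refine hoff.ne fun a ha => ?_
  obtain ⟨b, hb, hac⟩ := h1 a ha
  have h3 : (fun i => up (b i) : Fin k → Matrix.SpecialLinearGroup (Fin 2) F) = 1 := by
    funext j
    rw [hb j (Set.notMem_empty j)]; exact up_zero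
  rw [h3] at hac
  exact h.cent (h.SP (hAS ha)) hac

/-- a root group which is an offender: `C_V(A) = {v | e v i 1 = 0}` -/
theorem RtD.cent_iff [Finite G] (hA : RtD M i A) (hoff : OffM V A) {v : G} (hv : v ∈ V) :
    v ∈ centralizer (A : Set G) ↔ M.e v i 1 = 0 := by
  classical
  refine ⟨hA.zero_of_cent hv, fun h0 => ?_⟩
  refine h.fixI (I := {i}) hA.le (fun a ha => ?_) (fun b hb => ?_) hoff hv (fun j hj => by
    rw [Set.mem_singleton_iff.1 hj]; exact h0)
  · obtain ⟨c, hc⟩ := hA.acts a ha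
    refine ⟨Pi.single i c, fun j hj => Pi.single_eq_of_ne hj _, ?_⟩
    rw [key_single]; exact hc
  · obtain ⟨a, ha, hac⟩ := hA.ex (b i)
    refine ⟨a, ha, ?_⟩
    have e : (fun j => up (b j) : Fin k → Matrix.SpecialLinearGroup (Fin 2) F) = Pi.mulSingle i (up (b i)) := by
      rw [← key_single]
      funext j
      by_cases hj : j = i
      · subst hj; rw [Pi.single_eq_same]
      · rw [Pi.single_eq_of_ne hj, hb j hj]
    rw [e]; exact hac

/-- `V / C_V(A)` has order `|F|`. -/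
theorem RtD.relIndex' [Finite G] (hA : RtD M i A) (hoff : OffM V A) :
    (centralizer (A : Set G)).relIndex V = Nat.card F := by
  have h1 : (centralizer (A : Set G)).relIndex V = (YI M {i}).relIndex V := by
    unfold Subgroup.relIndex
    congr 1
    ext ⟨v, hv⟩
    rw [mem_subgroupOf, mem_subgroupOf]
    constructor
    · intro hc
      exact ⟨hv, fun j hj => by rw [Set.mem_singleton_iff.1 hj]; exact hA.zero_of_cent hv hc⟩
    · intro hy
      exact (hA.cent_iff h hoff hv).2 (hy.2 i rfl)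
  rw [h1, YI_relIndex, Nat.card_fun]
  simp

/-- a subgroup acting as the root group of block `i` in an offender is an offender -/
theorem RtD.offM [Finite G] {I : Set (Fin k)} {A B : Subgroup G} (hAS : A ≤ S) (hBA : B ≤ A)
    (h1 : ∀ a ∈ A, ∃ b : Fin k → F, (∀ i, i ∉ I → b i = 0) ∧ Ac M a fun i => up (b i))
    (h2 : ∀ b : Fin k → F, (∀ i, i ∉ I → b i = 0) → ∃ a ∈ A, Ac M a fun i => up (b i)) (hoff : OffM V A)
    (hB : RtD M i B) : OffM V B where
  sq a ha := hoff.sq a (hBA ha)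
  comm a ha b hb := hoff.comm a (hBA ha) b (hBA hb)
  ne h0 := by
    obtain ⟨v, hv, hvi, -⟩ := exists_pt (M := M) i ![0, 1]
    have h1 := hB.zero_of_cent hv (NO3b.EZero.cent_symm h0 hv)
    rw [hvi] at h1
    exact one_ne_zero (α := F) h1
  le := by
    refine relIndex_le_iff.2 ?_
    rw [hB.relIndex h]
    have h3 : (centralizer (B : Set G)).relIndex V = (YI M {i}).relIndex V := by
      unfold Subgroup.relIndex
      congr 1
      ext ⟨v, hv⟩
      rw [mem_subgroupOf, mem_subgroupOf]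
      constructor
      · intro hc
        exact ⟨hv, fun j hj => by rw [Set.mem_singleton_iff.1 hj]; exact hB.zero_of_cent hv hc⟩
      · intro hy
        exact RtD.fix h hAS hBA h1 h2 hoff hB hv (hy.2 i rfl)
    rw [h3, YI_relIndex, Nat.card_fun]
    simp

/-- **A minimal offender is a root group.** -/
theorem RtD.of [Finite G] (hA : MinOffM V S A) : ∃ i, RtD M i A := by
  classical
  obtain ⟨I, ⟨i, hi⟩, h1, h2⟩ := h.offI hA.le hA.off
  let B : Subgroup G :=
    { carrier := {a | a ∈ A ∧ ∃ c : F, Ac M a (Pi.mulSingle i (up c))}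
      mul_mem' := by
        rintro a b ⟨ha, c, hc⟩ ⟨hb, d, hd⟩
        refine ⟨mul_mem ha hb, c + d, ?_⟩
        rw [← mulSingle_mul]
        exact h.mul (h.SP (hA.le hb)) hc hd
      one_mem' := ⟨one_mem _, 0, by rw [mulSingle_zero]; exact h.one (one_mem _)⟩
      inv_mem' := by
        rintro a ⟨ha, c, hc⟩
        refine ⟨inv_mem ha, -c, ?_⟩
        rw [← mulSingle_inv]
        exact h.inv (h.SP (hA.le ha)) hc }
  have hBA : B ≤ A := fun a ha => ha.1
  have hB : RtD M i B := by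
    refine ⟨hBA.trans hA.le, fun a ha => ha.2, fun c => ?_⟩
    have hs : ∀ j, j ∉ I → (Pi.single i c : Fin k → F) j = 0 := by
      intro j hj
      have h3 : j ≠ i := fun h3 => hj (by rw [h3]; exact hi)
      rw [Pi.single_apply, if_neg h3]
    obtain ⟨a, ha, hac⟩ := h2 (Pi.single i c) hs
    rw [key_single] at hac
    exact ⟨a, ⟨ha, c, hac⟩, hac⟩
  have hm := hA.min B hBA (RtD.offM h hA.le hBA h1 h2 hA.off hB)
  have hAB : A ⊓ centralizer (V : Set G) = B ⊓ centralizer (V : Set G) := by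
    refine le_antisymm (fun a ha => ⟨⟨ha.1, 0, ?_⟩, ha.2⟩) (inf_le_inf_right _ hBA)
    rw [mulSingle_zero]; exact h.one ha.2
  have e1 := Star.rel_mul_card A (centralizer (V : Set G))
  have e2 := Star.rel_mul_card B (centralizer (V : Set G))
  rw [← hAB] at e2
  have h3 : Nat.card A ≤ Nat.card B := by
    rw [← e1, ← e2]
    exact Nat.mul_le_mul_right _ hm
  have h4 : B = A := Subgroup.eq_of_le_of_card_ge hBA h3
  exact ⟨i, h4 ▸ hB⟩

/-- **An offender with constant commutators is a root group.** -/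
theorem RtD.of_const [Finite G] (hAS : A ≤ S) (hoff : OffM V A) (hc : Const V A) : ∃ i, RtD M i A := by
  classical
  obtain ⟨I, ⟨i, hi⟩, h1, h2⟩ := h.offI hAS hoff
  have hcm : ∀ (a v : G), v ∈ V → a ∈ A → a * v * a⁻¹ ∈ V := fun a v hv ha => h.cm (h.SP (hAS ha)) hv
  -- the commutator of an element with `v_j`
  have hel : ∀ j ∈ I, ∃ v ∈ V, M.e v j = ![0, 1] ∧ (∀ l, l ≠ j → M.e v l = 0) ∧
      ∃ a ∈ A, M.e (a * v * a⁻¹ * v⁻¹) j = ![1, 0] := by
    intro j hj
    obtain ⟨v, hv, hvj, hvl⟩ := exists_pt (M := M) j ![0, 1]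
    obtain ⟨a, ha, hac⟩ := h2 (Pi.single j 1) (fun l hl => by
      have : l ≠ j := fun h3 => hl (by rw [h3]; exact hj)
      rw [Pi.single_apply, if_neg this])
    refine ⟨v, hv, hvj, hvl, a, ha, ?_⟩
    rw [M.mul _ (hcm a v hv ha) _ (inv_mem hv), e_inv hv, Pi.add_apply, Pi.neg_apply, hac.1 v hv j, hvj]
    simp only [Pi.single_eq_same]
    rw [ap_up]
    exact ext2 (by simp) (by simp)
  have huniq : ∀ j ∈ I, j = i := by
    intro j hj
    by_contra hne
    obtain ⟨v, hv, hvi, hvl, a, ha, hav⟩ := hel i hi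
    obtain ⟨w, hw, hwj, hwl, b, hb, hbw⟩ := hel j hj
    have hvc : v ∉ centralizer (A : Set G) := fun h3 => by
      have h4 : a * v * a⁻¹ * v⁻¹ = 1 := by rw [mem_centralizer_iff.1 h3 a ha]; group
      rw [h4, e_one] at hav
      exact one_ne_zero (α := F) (congrFun hav 0).symm
    have hwc : w ∉ centralizer (A : Set G) := fun h3 => by
      have h4 : b * w * b⁻¹ * w⁻¹ = 1 := by rw [mem_centralizer_iff.1 h3 b hb]; group
      rw [h4, e_one] at hbw
      exact one_ne_zero (α := F) (congrFun hbw 0).symm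
    obtain ⟨d, hd, h3⟩ := hc v hv hvc w hw hwc a ha
    obtain ⟨β, -, hdac⟩ := h1 d hd
    have hwi : M.e w i = 0 := hwl i (Ne.symm hne)
    rw [h3, M.mul _ (hcm d w hw hd) _ (inv_mem hw), e_inv hw, Pi.add_apply, Pi.neg_apply, hdac.1 w hw i, hwi,
      ap_up] at hav
    have h4 := congrFun hav 0
    simp at h4
  refine ⟨i, hAS, fun a ha => ?_, fun c => ?_⟩
  · obtain ⟨b, hb, hac⟩ := h1 a ha
    refine ⟨b i, ?_⟩
    have h3 : b = Pi.single i (b i) := by
      funext j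
      by_cases hj : j = i
      · subst hj; rw [Pi.single_eq_same]
      · rw [Pi.single_eq_of_ne hj, hb j fun h4 => hj (huniq j h4)]
    rw [← key_single, ← h3]
    exact hac
  · obtain ⟨a, ha, hac⟩ := h2 (Pi.single i c) (fun l hl => by
      have : l ≠ i := fun h3 => hl (by rw [h3]; exact hi)
      rw [Pi.single_apply, if_neg this])
    refine ⟨a, ha, ?_⟩
    rw [← key_single]
    exact hac

/-- a root group which is an offender is a minimal offender -/
theorem RtD.min [Finite G] (hA : RtD M i A) (hoff : OffM V A) : MinOffM V S A := by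
  classical
  refine ⟨hA.le, hoff, fun B hBA hB => ?_⟩
  obtain ⟨I, ⟨j, hj⟩, h1, h2⟩ := h.offI (hBA.trans hA.le) hB
  have hij : j = i := by
    by_contra hne
    obtain ⟨v, hv, hvj, -⟩ := exists_pt (M := M) j ![0, 1]
    obtain ⟨a, ha, hac⟩ := h2 (Pi.single j 1) (fun l hl => by
      have : l ≠ j := fun h3 => hl (by rw [h3]; exact hj)
      rw [Pi.single_apply, if_neg this])
    obtain ⟨c, hc⟩ := hA.acts a (hBA ha)
    have h3 := hac.1 v hv j
    rw [ac_ne hc hv hne, hvj] at h3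
    simp only [Pi.single_eq_same] at h3
    rw [ap_up] at h3
    have h4 := congrFun h3 0
    simp at h4
  subst hij
  have hRB : RtD M j B := by
    refine ⟨hBA.trans hA.le, fun a ha => hA.acts a (hBA ha), fun c => ?_⟩
    obtain ⟨a, ha, hac⟩ := h2 (Pi.single j c) (fun l hl => by
      have : l ≠ j := fun h3 => hl (by rw [h3]; exact hj)
      rw [Pi.single_apply, if_neg this])
    refine ⟨a, ha, ?_⟩
    rw [← key_single]
    exact hac
  rw [hA.relIndex h, hRB.relIndex h]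

theorem AmbD.const [Finite G] (hAS : A ≤ S) (hoff : OffM V A) (hc : Const V A) : MinOffM V S A := by
  obtain ⟨i, hi⟩ := RtD.of_const h hAS hoff hc
  exact hi.min h hoff

/-- `C_A(r) = C_A(V)` for `r ∈ V - C(A)` -/
theorem RtD.cent [Finite G] (hA : RtD M i A) (hoff : OffM V A) {r a : G} (hr : r ∈ V)
    (hrA : r ∉ centralizer (A : Set G)) (ha : a ∈ A) (har : a * r = r * a) : a ∈ centralizer (V : Set G) := by
  have h0 : M.e r i 1 ≠ 0 := fun h0 => hrA ((hA.cent_iff h hoff hr).2 h0)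
  obtain ⟨c, hc⟩ := hA.acts a ha
  have h1 := ac_at hc hr
  have h2 : a * r * a⁻¹ = r := by rw [har]; group
  rw [h2] at h1
  have h3 := congrFun h1 0
  simp only [Matrix.cons_val_zero] at h3
  have h4 : c * M.e r i 1 = 0 := left_eq_add.1 h3
  have h5 : c = 0 := (mul_eq_zero.1 h4).resolve_right h0
  rw [h5, mulSingle_zero] at hc
  exact h.cent (h.SP (hA.le ha)) hc

end root

end Cfsg.Agent.Omega.NO3S.SOne.NTD

end
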